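import Groth.Agent.FlatSpread.Fp
import Mathlib.RingTheory.IsTensorProduct
import Mathlib.Algebra.Module.Torsion.Basic

/-!
Models of flat finitely presented algebras and modules over finite type `ℤ`-algebras.
-/

set_option autoImplicit false
universe u

open MvPolynomial TensorProduct

namespace Groth.Agent.FlatSpread

/-- localising at units does nothing -/
theorem isLocalizedModule_id {A X : Type u} [CommRing A] [AddCommGroup X] [Module A X] (G : Submonoid A)
    (hG : ∀ x ∈ G, x = 1) : IsLocalizedModule G (LinearMap.id : X →ₗ[A] X) where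
  map_units x := by rw [hG x.1 x.2, map_one]; exact isUnit_one
  surj y := ⟨(y, 1), by simp⟩
  exists_of_eq h := ⟨1, by simpa using h⟩

/-- a quotient of a polynomial ring by an extended ideal is a base change -/
theorem isPushout_model {R₀ R S : Type u} [CommRing R₀] [CommRing R] [CommRing S] [Algebra R₀ R] [Algebra R S]
    [Algebra R₀ S] [IsScalarTower R₀ R S] {n : ℕ} (π : MvPolynomial (Fin n) R →ₐ[R] S) (hπ : Function.Surjective π)
    (J₀ : Ideal (MvPolynomial (Fin n) R₀))
    (hmap : J₀.map (MvPolynomial.map (algebraMap R₀ R)) = RingHom.ker π.toRingHom)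
    [Algebra (MvPolynomial (Fin n) R₀ ⧸ J₀) S] [IsScalarTower R₀ (MvPolynomial (Fin n) R₀ ⧸ J₀) S]
    (h : ∀ p, algebraMap (MvPolynomial (Fin n) R₀ ⧸ J₀) S (Ideal.Quotient.mk J₀ p) =
      π (MvPolynomial.map (algebraMap R₀ R) p)) :
    Algebra.IsPushout R₀ R (MvPolynomial (Fin n) R₀ ⧸ J₀) S := by
  refine ⟨IsBaseChange.of_lift_unique _ ?_⟩
  intro Q _ _ _ _ g
  letI : AddCommGroup Q := Module.addCommMonoidToAddCommGroup R
  let G : MvPolynomial (Fin n) R →ₗ[R] Q :=
    (MvPolynomial.basisMonomials (Fin n) R).constr R fun α => g (Ideal.Quotient.mk J₀ (monomial α 1))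
  have hG : ∀ p₀, G (MvPolynomial.map (algebraMap R₀ R) p₀) = g (Ideal.Quotient.mk J₀ p₀) := by
    intro p₀
    induction p₀ using MvPolynomial.induction_on' with
    | monomial α r =>
      have e1 : (monomial α (algebraMap R₀ R r) : MvPolynomial (Fin n) R) =
          algebraMap R₀ R r • (MvPolynomial.basisMonomials (Fin n) R) α := by
        rw [coe_basisMonomials, smul_monomial, smul_eq_mul, mul_one]
      have e2 : (monomial α r : MvPolynomial (Fin n) R₀) = r • monomial α 1 := by
        rw [smul_monomial, smul_eq_mul, mul_one]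
      rw [map_monomial, e1, map_smul, Module.Basis.constr_basis, algebraMap_smul, e2, ← g.map_smul]
      rfl
    | add p q hp hq => rw [map_add, map_add, hp, hq, map_add, map_add]
  have hker : LinearMap.ker π.toLinearMap ≤ LinearMap.ker G := by
    intro x hx
    have hx' : x ∈ J₀.map (MvPolynomial.map (algebraMap R₀ R)) := by
      rw [hmap]; exact hx
    have key : ∀ y ∈ J₀.map (MvPolynomial.map (algebraMap R₀ R)), ∀ p : MvPolynomial (Fin n) R, G (p * y) = 0 := by
      intro y hy
      induction hy using Submodule.span_induction with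
      | mem y hy =>
        obtain ⟨k, hk, rfl⟩ := hy
        intro p
        induction p using MvPolynomial.induction_on' with
        | monomial α c =>
          have : (monomial α c : MvPolynomial (Fin n) R) * MvPolynomial.map (algebraMap R₀ R) k =
              c • MvPolynomial.map (algebraMap R₀ R) (monomial α 1 * k) := by
            rw [map_mul, map_monomial, map_one, ← smul_mul_assoc, smul_monomial, smul_eq_mul, mul_one]
          rw [this, map_smul, hG, Ideal.Quotient.eq_zero_iff_mem.2 (J₀.mul_mem_left _ hk), map_zero, smul_zero]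
        | add p q hp hq => rw [add_mul, map_add, hp, hq, add_zero]
      | zero => intro p; rw [mul_zero, map_zero]
      | add a b _ _ ha hb => intro p; rw [mul_add, map_add, ha, hb, add_zero]
      | smul q a _ ha => intro p; rw [smul_eq_mul, ← mul_assoc]; exact ha _
    exact (one_mul x ▸ key x hx' 1 :)
  let e := π.toLinearMap.quotKerEquivOfSurjective hπ
  let g' : S →ₗ[R] Q := ((LinearMap.ker π.toLinearMap).liftQ G hker).comp e.symm.toLinearMap
  have hg' : ∀ p, g' (π p) = G p := by
    intro p
    have : e.symm (π p) = Submodule.Quotient.mk p := by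
      rw [LinearEquiv.symm_apply_eq]; rfl
    change (LinearMap.ker π.toLinearMap).liftQ G hker (e.symm (π p)) = G p
    rw [this, Submodule.liftQ_apply]
  refine ⟨g', ?_, ?_⟩
  · ext x
    obtain ⟨p₀, rfl⟩ := Ideal.Quotient.mk_surjective x
    change g' (algebraMap _ S (Ideal.Quotient.mk J₀ p₀)) = _
    rw [h, hg', hG]
  · intro g'' hg''
    ext s
    obtain ⟨p, rfl⟩ := hπ s
    rw [hg']
    induction p using MvPolynomial.induction_on' with
    | monomial α c =>
      have e1 : (monomial α c : MvPolynomial (Fin n) R) =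
          c • MvPolynomial.map (algebraMap R₀ R) (monomial α 1) := by
        rw [map_monomial, map_one, smul_monomial, smul_eq_mul, mul_one]
      rw [e1, map_smul π, map_smul G, g''.map_smul, hG, ← h, ← hg'']
      rfl
    | add p q hp hq => rw [map_add π, map_add G, map_add g'', hp, hq]

/-- **Models of flat finitely presented modules.** -/
theorem exists_model_module (R : Type u) [CommRing R]
    (S : Type u) [CommRing S] [Algebra R S] [Algebra.FinitePresentation R S] (M : Type u)
    [AddCommGroup M] [Module S M] [Module R M] [IsScalarTower R S M]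
    [Module.FinitePresentation S M] [Module.Flat R M] :
    ∃ (R₀ : Type u) (_ : CommRing R₀) (_ : Algebra R₀ R) (S₀ : Type u) (_ : CommRing S₀)
      (_ : Algebra R₀ S₀) (_ : Algebra S₀ S) (_ : Algebra R₀ S) (_ : IsScalarTower R₀ R S)
      (_ : IsScalarTower R₀ S₀ S) (M₀ : Type u) (_ : AddCommGroup M₀) (_ : Module S₀ M₀)
      (_ : Module R₀ M₀) (_ : IsScalarTower R₀ S₀ M₀) (_ : Module S₀ M) (_ : IsScalarTower S₀ S M)
      (f : M₀ →ₗ[S₀] M),
      Algebra.FiniteType ℤ R₀ ∧ Algebra.FiniteType R₀ S₀ ∧ Module.Finite S₀ M₀ ∧ Module.Flat R₀ M₀ ∧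
        Algebra.IsPushout R₀ R S₀ S ∧ IsBaseChange S f := by
  classical
  obtain ⟨n, m, π, hπ, ⟨K, hK⟩, W, ⟨Tg, hTg⟩, ⟨e⟩⟩ := exists_presentation (R := R) (S := S) (M := M)
  letI : Module (MvPolynomial (Fin n) R) M := Module.compHom M π.toRingHom
  let T : Finset (Fin m → MvPolynomial (Fin n) R) :=
    Tg ∪ (K ×ˢ (Finset.univ : Finset (Fin m))).image fun p => Pi.single p.2 p.1
  have hsingle : ∀ k ∈ K, ∀ i, Pi.single i k ∈ W := by
    intro k hk i
    have hk' : π k = 0 := RingHom.mem_ker.1 (hK ▸ Ideal.subset_span hk)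
    have e1 : Pi.single i k = k • (Pi.single i 1 : Fin m → MvPolynomial (Fin n) R) := by
      rw [← Pi.single_smul, smul_eq_mul, mul_one]
    rw [e1, ← Submodule.Quotient.mk_eq_zero, Submodule.Quotient.mk_smul]
    apply e.injective
    rw [map_zero, map_smul]
    change π k • e (Submodule.Quotient.mk _) = 0
    rw [hk', zero_smul]
  have hT : Submodule.span (MvPolynomial (Fin n) R) (T : Set (Fin m → MvPolynomial (Fin n) R)) = W := by
    refine le_antisymm (Submodule.span_le.2 fun x hx => ?_) (hTg ▸ Submodule.span_mono (by simp [T]))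
    rcases Finset.mem_union.1 hx with hx | hx
    · exact hTg ▸ Submodule.subset_span hx
    · obtain ⟨⟨k, i⟩, hki, rfl⟩ := Finset.mem_image.1 hx
      exact hsingle k (Finset.mem_product.1 hki).1 i
  have hflat : Module.Flat R (LocalizedModule ((⊥ : Submonoid (MvPolynomial (Fin n) R)).map π.toRingHom) M) := by
    rw [Submonoid.map_bot]
    haveI : IsLocalizedModule (⊥ : Submonoid S) (LinearMap.id : M →ₗ[S] M) :=
      isLocalizedModule_id _ fun x hx => Submonoid.mem_bot.1 hx
    exact Module.Flat.of_linearEquiv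
      ((IsLocalizedModule.iso (⊥ : Submonoid S) (LinearMap.id : M →ₗ[S] M)).restrictScalars R)
  obtain ⟨R₀, _, φ, hft, hφ, W₀, g₀, hW₀, hg₀, hfl, hTl, hKl⟩ :=
    exists_model_fl' T hT K ((flat_localized_iff π W e ⊥).1 hflat)
  letI : Algebra R₀ R := φ.toAlgebra
  letI : Algebra R₀ S := ((algebraMap R S).comp φ).toAlgebra
  haveI : IsScalarTower R₀ R S := IsScalarTower.of_algebraMap_eq fun _ => rfl
  choose k₀ hk₀ using hKl
  let J₀ : Ideal (MvPolynomial (Fin n) R₀) := Ideal.span (Set.range fun k : K => k₀ k.1 k.2)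
  have hmap : J₀.map (MvPolynomial.map φ) = RingHom.ker π.toRingHom := by
    rw [Ideal.map_span, ← hK, ← Set.range_comp]
    congr 1
    ext x
    constructor
    · rintro ⟨k, rfl⟩
      simp only [Function.comp_apply, hk₀]
      exact k.2
    · intro hx
      exact ⟨⟨x, hx⟩, hk₀ x hx⟩
  let ψ : MvPolynomial (Fin n) R₀ →+* S := π.toRingHom.comp (MvPolynomial.map φ)
  have hψ : ∀ a ∈ J₀, ψ a = 0 := fun a ha =>
    have h := Ideal.mem_map_of_mem (MvPolynomial.map φ) ha
    RingHom.mem_ker.1 (show MvPolynomial.map φ a ∈ RingHom.ker π.toRingHom from hmap ▸ h)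
  letI : Algebra (MvPolynomial (Fin n) R₀ ⧸ J₀) S := (Ideal.Quotient.lift J₀ ψ hψ).toAlgebra
  haveI : IsScalarTower R₀ (MvPolynomial (Fin n) R₀ ⧸ J₀) S :=
    IsScalarTower.of_algebraMap_eq (R := R₀) (S := MvPolynomial (Fin n) R₀ ⧸ J₀) (A := S) fun r => by
    change algebraMap R S (φ r) = π (MvPolynomial.map φ (C r))
    rw [map_C, ← MvPolynomial.algebraMap_eq, π.commutes]
  -- the module
  have hker₀ : ∀ x : (Fin m → MvPolynomial (Fin n) R₀) ⧸ W₀, ∀ a ∈ J₀, a • x = 0 := by
    intro x
    obtain ⟨y, rfl⟩ := Submodule.Quotient.mk_surjective W₀ x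
    intro a ha
    induction ha using Submodule.span_induction with
    | mem a ha =>
      obtain ⟨⟨k, hk⟩, rfl⟩ := ha
      rw [← Submodule.Quotient.mk_smul, Submodule.Quotient.mk_eq_zero,
        show k₀ k hk • y = ∑ i, y i • (Pi.single i (k₀ k hk) : Fin m → MvPolynomial (Fin n) R₀) from ?_]
      · refine sum_mem fun i _ => W₀.smul_mem _ ?_
        obtain ⟨x₀, hx₀, hx₀e⟩ := hTl (Pi.single i k)
          (Finset.mem_union_right _ (Finset.mem_image.2 ⟨(k, i), Finset.mem_product.2 ⟨hk, Finset.mem_univ i⟩, rfl⟩))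
        have : x₀ = Pi.single i (k₀ k hk) := by
          funext j
          apply MvPolynomial.map_injective φ hφ
          refine (congrFun hx₀e j).trans ?_
          rcases eq_or_ne j i with rfl | hji
          · simp [hk₀]
          · simp [hji]
        exact this ▸ hx₀
      · funext j
        rw [Finset.sum_apply, Pi.smul_apply, Finset.sum_eq_single j]
        · simp [mul_comm]
        · intro i _ hi; simp [Ne.symm hi]
        · simp
    | zero => rw [zero_smul]
    | add a b _ _ ha hb => rw [add_smul, ha, hb, add_zero]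
    | smul c a _ ha => rw [smul_eq_mul, mul_smul, ha, smul_zero]
  have htors : Module.IsTorsionBySet (MvPolynomial (Fin n) R₀) ((Fin m → MvPolynomial (Fin n) R₀) ⧸ W₀) (J₀ : Set _) :=
    fun x a => hker₀ x a.1 a.2
  letI := htors.module
  haveI : IsScalarTower R₀ (MvPolynomial (Fin n) R₀ ⧸ J₀) ((Fin m → MvPolynomial (Fin n) R₀) ⧸ W₀) :=
    htors.isScalarTower
  haveI : IsScalarTower (MvPolynomial (Fin n) R₀) (MvPolynomial (Fin n) R₀ ⧸ J₀)
      ((Fin m → MvPolynomial (Fin n) R₀) ⧸ W₀) := htors.isScalarTower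
  letI : Module (MvPolynomial (Fin n) R₀ ⧸ J₀) M := Module.compHom M (algebraMap (MvPolynomial (Fin n) R₀ ⧸ J₀) S)
  haveI : IsScalarTower (MvPolynomial (Fin n) R₀ ⧸ J₀) S M := ⟨fun a s x => by
    change (algebraMap _ S a * s) • x = algebraMap _ S a • s • x
    rw [mul_smul]⟩
  letI : Module (MvPolynomial (Fin n) R₀) M := Module.compHom M ψ
  let g : (Fin m → MvPolynomial (Fin n) R₀) →ₗ[MvPolynomial (Fin n) R₀] M :=
    { toFun := fun y => e (Submodule.Quotient.mk (kL φ y))
      map_add' := fun a b => by rw [map_add, Submodule.Quotient.mk_add, map_add]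
      map_smul' := fun p y => by
        rw [LinearMap.map_smulₛₗ, Submodule.Quotient.mk_smul, map_smul]
        rfl }
  have hg : W₀ ≤ LinearMap.ker g := fun w hw => by
    have : kL φ w ∈ W := hW₀ ▸ kL_mem_ext φ hw
    change e (Submodule.Quotient.mk (kL φ w)) = 0
    rw [(Submodule.Quotient.mk_eq_zero W).2 this, map_zero]
  let f : ((Fin m → MvPolynomial (Fin n) R₀) ⧸ W₀) →ₗ[MvPolynomial (Fin n) R₀ ⧸ J₀] M :=
    { toFun := W₀.liftQ g hg
      map_add' := map_add _
      map_smul' := fun a x => by
        obtain ⟨p, rfl⟩ := Ideal.Quotient.mk_surjective a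
        exact (W₀.liftQ g hg).map_smul p x }
  refine ⟨R₀, inferInstance, inferInstance, MvPolynomial (Fin n) R₀ ⧸ J₀, inferInstance, inferInstance, inferInstance,
    inferInstance, inferInstance, inferInstance, (Fin m → MvPolynomial (Fin n) R₀) ⧸ W₀, inferInstance, inferInstance,
    inferInstance, inferInstance, inferInstance, inferInstance, f, hft, inferInstance, ?_, ?_,
    isPushout_model π hπ J₀ hmap (fun _ => rfl), ?_⟩
  · exact Module.Finite.of_restrictScalars_finite (MvPolynomial (Fin n) R₀) _ _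
  · have hg1 : g₀ = 1 := MvPolynomial.map_injective φ hφ (by rw [map_one]; exact Submonoid.mem_bot.1 hg₀)
    haveI := flat_of_fl _ _ hfl
    haveI : IsLocalizedModule (Submonoid.powers g₀)
        (LinearMap.id : ((Fin m → MvPolynomial (Fin n) R₀) ⧸ W₀) →ₗ[MvPolynomial (Fin n) R₀] _) :=
      isLocalizedModule_id _ fun x hx => by
        obtain ⟨j, rfl⟩ := hx
        rw [hg1]; exact one_pow j
    exact Module.Flat.of_linearEquiv
      ((IsLocalizedModule.iso (Submonoid.powers g₀)
        (LinearMap.id : ((Fin m → MvPolynomial (Fin n) R₀) ⧸ W₀) →ₗ[MvPolynomial (Fin n) R₀] _)).restrictScalars R₀).symm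
  · refine IsBaseChange.of_lift_unique _ ?_
    intro Q _ _ _ _ h
    letI : AddCommGroup Q := Module.addCommMonoidToAddCommGroup S
    letI : Module (MvPolynomial (Fin n) R) Q := Module.compHom Q π.toRingHom
    let G : (Fin m → MvPolynomial (Fin n) R) →ₗ[MvPolynomial (Fin n) R] Q :=
      Fintype.linearCombination (MvPolynomial (Fin n) R) fun i => h (Submodule.Quotient.mk (Pi.single i 1))
    have hG₀ : ∀ y, G (kL φ y) = h (Submodule.Quotient.mk y) := by
      intro y
      conv_rhs => rw [← (Finset.univ_sum_single y)]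
      rw [← Submodule.mkQ_apply, map_sum, map_sum, Fintype.linearCombination_apply]
      refine Finset.sum_congr rfl fun i _ => ?_
      rw [show Pi.single i (y i) = y i • (Pi.single i 1 : Fin m → MvPolynomial (Fin n) R₀) by
        rw [← Pi.single_smul, smul_eq_mul, mul_one], map_smul W₀.mkQ,
        ← IsScalarTower.algebraMap_smul (MvPolynomial (Fin n) R₀ ⧸ J₀) (y i), map_smul h]
      exact IsScalarTower.algebraMap_smul S (Ideal.Quotient.mk J₀ (y i)) (h (W₀.mkQ (Pi.single i 1)))
    have hGW : W ≤ LinearMap.ker G := by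
      rw [← hW₀, ext, Submodule.span_le]
      rintro _ ⟨w, hw, rfl⟩
      change G (kL φ w) = 0
      rw [hG₀, (Submodule.Quotient.mk_eq_zero W₀).2 hw, map_zero]
    let g' : M →ₗ[S] Q :=
      { toFun := fun x => W.liftQ G hGW (e.symm x)
        map_add' := fun a b => by rw [map_add, map_add]
        map_smul' := fun s x => by
          obtain ⟨p, rfl⟩ := hπ s
          change W.liftQ G hGW (e.symm (p • x)) = p • W.liftQ G hGW (e.symm x)
          rw [map_smul, map_smul] }
    have hg' : ∀ y, g' (e (Submodule.Quotient.mk y)) = G y := fun y => by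
      change W.liftQ G hGW (e.symm (e _)) = _
      rw [LinearEquiv.symm_apply_apply]
      rfl
    refine ⟨g', ?_, fun g'' hg'' => ?_⟩
    · ext x
      obtain ⟨y, rfl⟩ := Submodule.Quotient.mk_surjective W₀ x
      exact (hg' (kL φ y)).trans (hG₀ y)
    · ext x
      obtain ⟨q, rfl⟩ := e.surjective x
      obtain ⟨y, rfl⟩ := Submodule.Quotient.mk_surjective W q
      rw [hg', ← Finset.univ_sum_single y, ← Submodule.mkQ_apply, map_sum, map_sum, map_sum, map_sum]
      refine Finset.sum_congr rfl fun i _ => ?_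
      rw [show Pi.single i (y i) = y i • (Pi.single i 1 : Fin m → MvPolynomial (Fin n) R) by
        rw [← Pi.single_smul, smul_eq_mul, mul_one], map_smul W.mkQ, map_smul e, map_smul G]
      change g'' (π (y i) • e _) = π (y i) • _
      rw [map_smul]
      congr 1
      have h1 : kL φ (Pi.single i 1) = (Pi.single i 1 : Fin m → MvPolynomial (Fin n) R) := by
        funext j
        change MvPolynomial.map φ ((Pi.single i 1 : Fin m → MvPolynomial (Fin n) R₀) j) = _
        rcases eq_or_ne j i with rfl | hji <;> simp [*]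
      rw [← h1, hG₀, ← hg'', ]
      rfl

/-- **Models of flat finitely presented algebras.** -/
theorem exists_model_algebra (R S : Type u) [CommRing R] [CommRing S] [Algebra R S] [Algebra.FinitePresentation R S]
    [Module.Flat R S] :
    ∃ (R₀ : Type u) (_ : CommRing R₀) (_ : Algebra R₀ R) (S₀ : Type u) (_ : CommRing S₀)
      (_ : Algebra R₀ S₀) (_ : Algebra S₀ S) (_ : Algebra R₀ S) (_ : IsScalarTower R₀ R S)
      (_ : IsScalarTower R₀ S₀ S),
      Algebra.FiniteType ℤ R₀ ∧ Algebra.FiniteType R₀ S₀ ∧ Module.Flat R₀ S₀ ∧ Algebra.IsPushout R₀ R S₀ S := by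
  classical
  obtain ⟨n, π, hπ, ⟨K, hK⟩⟩ := Algebra.FinitePresentation.out (R := R) (A := S)
  letI : Module (MvPolynomial (Fin n) R) S := Module.compHom S π.toRingHom
  let u := LinearEquiv.funUnique (Fin 1) (MvPolynomial (Fin n) R) (MvPolynomial (Fin n) R)
  let W : Submodule (MvPolynomial (Fin n) R) (Fin 1 → MvPolynomial (Fin n) R) :=
    Submodule.comap u.toLinearMap (RingHom.ker π.toRingHom)
  let g : (Fin 1 → MvPolynomial (Fin n) R) →ₗ[MvPolynomial (Fin n) R] S :=
    { toFun := fun x => π (x 0)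
      map_add' := fun a b => map_add π _ _
      map_smul' := fun p x => map_mul π _ _ }
  have hgW : LinearMap.ker g = W := rfl
  let e : ((Fin 1 → MvPolynomial (Fin n) R) ⧸ W) ≃ₗ[MvPolynomial (Fin n) R] S :=
    (Submodule.quotEquivOfEq _ _ hgW.symm).trans (g.quotKerEquivOfSurjective fun s =>
      let ⟨p, hp⟩ := hπ s; ⟨fun _ => p, hp⟩)
  let T : Finset (Fin 1 → MvPolynomial (Fin n) R) := K.image fun k => u.symm k
  have hT : Submodule.span (MvPolynomial (Fin n) R) (T : Set (Fin 1 → MvPolynomial (Fin n) R)) = W := by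
    rw [Finset.coe_image]
    refine (Submodule.map_span u.symm.toLinearMap _).symm.trans ?_
    refine (congrArg (Submodule.map u.symm.toLinearMap) hK).trans ?_
    exact (Submodule.map_equiv_eq_comap_symm _ _)
  have hflat : Module.Flat R (LocalizedModule ((⊥ : Submonoid (MvPolynomial (Fin n) R)).map π.toRingHom) S) := by
    rw [Submonoid.map_bot]
    haveI := isLocalizedModule_id (X := S) (⊥ : Submonoid S) fun x hx => Submonoid.mem_bot.1 hx
    exact Module.Flat.of_linearEquiv
      ((IsLocalizedModule.iso (⊥ : Submonoid S) (LinearMap.id : S →ₗ[S] S)).restrictScalars R)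
  obtain ⟨R₀, _, φ, hft, hφ, W₀, g₀, hW₀, hg₀, hfl, -, -⟩ :=
    exists_model_fl' T hT ∅ ((flat_localized_iff π W e ⊥).1 hflat)
  letI : Algebra R₀ R := φ.toAlgebra
  letI : Algebra R₀ S := ((algebraMap R S).comp φ).toAlgebra
  haveI : IsScalarTower R₀ R S := IsScalarTower.of_algebraMap_eq fun _ => rfl
  let u₀ := LinearEquiv.funUnique (Fin 1) (MvPolynomial (Fin n) R₀) (MvPolynomial (Fin n) R₀)
  let J₀ : Ideal (MvPolynomial (Fin n) R₀) := W₀.map u₀.toLinearMap
  have hmap : J₀.map (MvPolynomial.map φ) = RingHom.ker π.toRingHom := by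
    refine le_antisymm (Ideal.map_le_iff_le_comap.2 ?_) fun x hx => ?_
    · rintro _ ⟨w, hw, rfl⟩
      have h1 : kL φ w ∈ W := hW₀ ▸ kL_mem_ext φ hw
      exact h1
    · have hxW : u.symm x ∈ ext φ W₀ := by
        rw [hW₀]
        exact show u (u.symm x) ∈ RingHom.ker π.toRingHom by rwa [LinearEquiv.apply_symm_apply]
      have key : ∀ y ∈ ext φ W₀, u y ∈ J₀.map (MvPolynomial.map φ) := by
        intro y hy
        induction hy using Submodule.span_induction with
        | mem y hy =>
          obtain ⟨w, hw, rfl⟩ := hy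
          exact Ideal.mem_map_of_mem (MvPolynomial.map φ) (Submodule.mem_map_of_mem (f := u₀.toLinearMap) hw)
        | zero => rw [map_zero]; exact zero_mem _
        | add a b _ _ ha hb => rw [map_add]; exact add_mem ha hb
        | smul c a _ ha => rw [map_smul]; exact Ideal.mul_mem_left _ c ha
      have h3 := key _ hxW
      rwa [LinearEquiv.apply_symm_apply] at h3
  let ψ : MvPolynomial (Fin n) R₀ →+* S := π.toRingHom.comp (MvPolynomial.map φ)
  have hψ : ∀ a ∈ J₀, ψ a = 0 := fun a ha =>
    have h := Ideal.mem_map_of_mem (MvPolynomial.map φ) ha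
    RingHom.mem_ker.1 (show MvPolynomial.map φ a ∈ RingHom.ker π.toRingHom from hmap ▸ h)
  letI : Algebra (MvPolynomial (Fin n) R₀ ⧸ J₀) S := (Ideal.Quotient.lift J₀ ψ hψ).toAlgebra
  haveI : IsScalarTower R₀ (MvPolynomial (Fin n) R₀ ⧸ J₀) S :=
    IsScalarTower.of_algebraMap_eq (R := R₀) (S := MvPolynomial (Fin n) R₀ ⧸ J₀) (A := S) fun r => by
    change algebraMap R S (φ r) = π (MvPolynomial.map φ (C r))
    rw [map_C, ← MvPolynomial.algebraMap_eq, π.commutes]
  have hg1 : g₀ = 1 := MvPolynomial.map_injective φ hφ (by rw [map_one]; exact Submonoid.mem_bot.1 hg₀)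
  haveI := flat_of_fl _ _ hfl
  haveI := isLocalizedModule_id (X := (Fin 1 → MvPolynomial (Fin n) R₀) ⧸ W₀) (Submonoid.powers g₀) fun x hx => by
    obtain ⟨j, rfl⟩ := hx
    rw [hg1]; exact one_pow j
  haveI : Module.Flat R₀ ((Fin 1 → MvPolynomial (Fin n) R₀) ⧸ W₀) :=
    Module.Flat.of_linearEquiv ((IsLocalizedModule.iso (Submonoid.powers g₀)
      (LinearMap.id : ((Fin 1 → MvPolynomial (Fin n) R₀) ⧸ W₀) →ₗ[MvPolynomial (Fin n) R₀] _)).restrictScalars R₀).symm
  refine ⟨R₀, inferInstance, inferInstance, MvPolynomial (Fin n) R₀ ⧸ J₀, inferInstance, inferInstance, inferInstance,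
    inferInstance, inferInstance, inferInstance, hft, inferInstance, ?_, isPushout_model π hπ J₀ hmap fun _ => rfl⟩
  exact Module.Flat.of_linearEquiv ((Submodule.Quotient.equiv W₀ J₀ u₀ rfl).restrictScalars R₀).symm

end Groth.Agent.FlatSpread
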