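import Groth.Agent.FlatSpread.Sys
import Groth.Agent.LimDesc.DescendAffine
import Mathlib.AlgebraicGeometry.Morphisms.Flat
import Mathlib.AlgebraicGeometry.Morphisms.FinitePresentation

/-!
Flatness descends along cofiltered limits of schemes with affine transition maps.
-/

set_option autoImplicit false
universe u
open CategoryTheory CategoryTheory.Limits AlgebraicGeometry

namespace Groth.Agent.FlatSpread

open LimDesc

variable {I : Type u} [SmallCategory I] [IsCofiltered I] (D : I ⥤ Scheme.{u})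
  [∀ {i j} (f : i ⟶ j), IsAffineHom (D.map f)] {i₀ : I}
variable (c : Cone D) (hc : IsLimit c)
variable {X₀ Y₀ : Scheme.{u}} (f₀ : X₀ ⟶ Y₀) (g₀ : Y₀ ⟶ D.obj i₀)
variable {X Y : Scheme.{u}} {f : X ⟶ Y} {g : Y ⟶ c.pt} {qY : Y ⟶ Y₀} {qX : X ⟶ X₀}
variable (hY : IsPullback qY g g₀ (c.π.app i₀)) (hX : IsPullback qX f f₀ qY)

include hc hY in
/-- the rings of global sections of the stages -/
noncomputable def sysGamma [IsAffine Y₀] : Sys.{u, u} qY.appTop.hom where
  J := Over i₀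
  G j := Γ(stage D g₀ j, ⊤)
  a j := (toBase D g₀ j).appTop.hom
  ψ j := (proj D g₀ c hY j).appTop.hom
  fac j := by rw [← CommRingCat.hom_comp, ← Scheme.Hom.comp_appTop, proj_toBase]
  nonempty := ⟨Over.mk (𝟙 i₀)⟩
  lift j x := by
    have : ∀ k, CompactSpace ((tower D g₀).obj k) := fun k => compactSpace_stage D g₀ k
    have : ∀ k, QuasiSeparatedSpace ((tower D g₀).obj k) := fun k => quasiSeparatedSpace_stage D g₀ k
    have : ∀ {i k : Over i₀} (a : i ⟶ k), IsAffineHom ((tower D g₀).map a) := fun a => isAffineHom_tower_map D g₀ a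
    obtain ⟨k, (t : Γ(stage D g₀ k, ⊤)), ht⟩ := exists_appTop_π_eq_of_isLimit (tower D g₀) (towerCone D g₀ c hY)
      (isLimitTowerCone D g₀ c hY hc) x
    obtain ⟨l, a, b, -⟩ := IsCofilteredOrEmpty.cone_objs j k
    have hw : ∀ {i k : Over i₀} (a : i ⟶ k), proj D g₀ c hY i ≫ trans D g₀ a = proj D g₀ c hY k := fun a =>
      (towerCone D g₀ c hY).w a
    refine ⟨l, (trans D g₀ a).appTop.hom, ?_, ?_, (trans D g₀ b).appTop t, ?_⟩
    · rw [← CommRingCat.hom_comp, ← Scheme.Hom.comp_appTop, hw]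
    · rw [← CommRingCat.hom_comp, ← Scheme.Hom.comp_appTop, trans_toBase]
    · rw [← CommRingCat.comp_apply, ← Scheme.Hom.comp_appTop, hw]
      exact ht.symm
  eq j y hy := by
    have : ∀ k, CompactSpace ((tower D g₀).obj k) := fun k => compactSpace_stage D g₀ k
    have : ∀ {i k : Over i₀} (a : i ⟶ k), IsAffineHom ((tower D g₀).map a) := fun a => isAffineHom_tower_map D g₀ a
    obtain ⟨k, a, hk⟩ := exists_appTop_map_eq_zero_of_isLimit (tower D g₀) (towerCone D g₀ c hY)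
      (isLimitTowerCone D g₀ c hY hc) (i := j) y hy
    refine ⟨k, (trans D g₀ a).appTop.hom, ?_, ?_, hk⟩
    · rw [← CommRingCat.hom_comp, ← Scheme.Hom.comp_appTop]
      exact congrArg (fun m => (Scheme.Hom.appTop m).hom) ((towerCone D g₀ c hY).w a)
    · rw [← CommRingCat.hom_comp, ← Scheme.Hom.comp_appTop, trans_toBase]

include hc hY hX in
/-- the affine case -/
theorem exists_flat_of_isAffine [IsAffine X₀] [IsAffine Y₀] [LocallyOfFinitePresentation f₀] [Flat f] :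
    ∃ j : Over i₀, Flat (stageMap D g₀ f₀ j) := by
  have := isAffineHom_π_app D c hc i₀
  have : IsAffineHom qY := MorphismProperty.of_isPullback hY.flip inferInstance
  have : IsAffine Y := isAffine_of_isAffineHom qY
  have hXS := isPullback_comp D g₀ c hY f₀ hX
  have : IsAffineHom qX := MorphismProperty.of_isPullback hXS.flip inferInstance
  have : IsAffine X := isAffine_of_isAffineHom qX
  have hYa : ∀ j, IsAffine (stage D g₀ j) := fun j =>
    have := isAffineHom_toBase D g₀ j; isAffine_of_isAffineHom (toBase D g₀ j)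
  have hXa : ∀ j, IsAffine (stage D (f₀ ≫ g₀) j) := fun j =>
    have := isAffineHom_toBase D (f₀ ≫ g₀) j; isAffine_of_isAffineHom (toBase D (f₀ ≫ g₀) j)
  have hfp : f₀.appTop.hom.FinitePresentation :=
    (HasRingHomProperty.iff_of_isAffine (P := @LocallyOfFinitePresentation)).1 inferInstance
  algebraize [f₀.appTop.hom]
  obtain ⟨n, π, hπ, hker⟩ := Algebra.FinitePresentation.out (R := Γ(Y₀, ⊤)) (A := Γ(X₀, ⊤))
  have key : ∀ {A' B' : Scheme.{u}} (a : A' ⟶ Y₀) (b : B' ⟶ X₀) (m : B' ⟶ A') [IsAffine A'] [IsAffine B'],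
      IsPullback b m f₀ a → (Flat m ↔ Fl (⊥ : Ideal Γ(A', ⊤)) (⊥ : Submonoid (MvPolynomial (Fin n) Γ(A', ⊤)))
        (ext a.appTop.hom (Submodule.comap (LinearEquiv.funUnique (Fin 1) (MvPolynomial (Fin n) Γ(Y₀, ⊤))
          (MvPolynomial (Fin n) Γ(Y₀, ⊤))).toLinearMap (RingHom.ker π.toRingHom)))) := by
    intro A' B' a b m _ _ hpb
    obtain ⟨π', hπ', hπC, hk⟩ := exists_presentation_pushout _ _ _ _ (isPushout_appTop_of_isPullback hpb)
      π.toRingHom hπ (fun r => π.commutes r)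
    letI : Algebra Γ(A', ⊤) Γ(B', ⊤) := m.appTop.hom.toAlgebra
    let π'' : MvPolynomial (Fin n) Γ(A', ⊤) →ₐ[Γ(A', ⊤)] Γ(B', ⊤) := { π' with commutes' := hπC }
    rw [HasRingHomProperty.iff_of_isAffine (P := @Flat), ext_comap_funUnique, ← hk]
    exact flat_iff_fl π'' hπ'
  have hW : (Submodule.comap (LinearEquiv.funUnique (Fin 1) (MvPolynomial (Fin n) Γ(Y₀, ⊤))
          (MvPolynomial (Fin n) Γ(Y₀, ⊤))).toLinearMap (RingHom.ker π.toRingHom)).FG := by
    classical
    obtain ⟨F, hF⟩ := hker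
    refine ⟨(F.image fun q => (fun _ => q : Fin 1 → MvPolynomial (Fin n) Γ(Y₀, ⊤))), ?_⟩
    rw [Finset.coe_image]
    refine le_antisymm (Submodule.span_le.2 ?_) fun y hy => ?_
    · rintro _ ⟨q, hq, rfl⟩
      exact hF ▸ Ideal.subset_span hq
    · have hmem : ∀ q ∈ Ideal.span (F : Set _), (fun _ => q : Fin 1 → MvPolynomial (Fin n) Γ(Y₀, ⊤)) ∈
          Submodule.span (MvPolynomial (Fin n) Γ(Y₀, ⊤))
            ((fun q => (fun _ => q : Fin 1 → MvPolynomial (Fin n) Γ(Y₀, ⊤))) '' (F : Set _)) := by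
        intro q hq
        induction hq using Submodule.span_induction with
        | mem q hq => exact Submodule.subset_span ⟨q, hq, rfl⟩
        | zero => exact zero_mem _
        | add a b _ _ ha hb => exact add_mem ha hb
        | smul c a _ ha => exact Submodule.smul_mem _ c ha
      refine (congrArg (· ∈ Submodule.span _ _) (funext fun i => ?_)).mp (hmem (y 0) (hF.symm ▸ hy))
      fin_cases i
      rfl
  obtain ⟨j, p, hp, hfl⟩ := (sysGamma D c hc g₀ hY).exists_fl hW ((key qY qX f hX).1 inferInstance)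
  obtain ⟨k, h, h1, h2, h3⟩ := (sysGamma D c hc g₀ hY).eq_vec (ι := Fin 1) (fun _ => p) (fun _ => 1) (funext fun _ => by
    change MvPolynomial.map _ p = MvPolynomial.map _ 1
    rw [map_one]; exact Submonoid.mem_bot.1 hp)
  have hp1 : MvPolynomial.map h p = 1 := (congrFun h3 0).trans (show MvPolynomial.map h 1 = 1 from map_one _)
  refine ⟨k, (key (toBase D g₀ k) (toBase D (f₀ ≫ g₀) k) (stageMap D g₀ f₀ k) (isPullback_stageMap D g₀ f₀ k)).2 ?_⟩
  have := Fl.baseChange h hfl (G' := (⊥ : Submonoid _)) (by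
    rintro _ ⟨i, rfl⟩
    rw [Submonoid.mem_bot]
    exact (map_pow _ p i).trans (hp1.symm ▸ one_pow i))
  rw [Ideal.map_bot, ext_ext, h2] at this
  exact this

include hc hY hX in
/-- **Flatness descends to a stage.** -/
theorem exists_flat [CompactSpace X₀] [LocallyOfFinitePresentation f₀] [Flat f] :
    ∃ j : Over i₀, Flat (stageMap D g₀ f₀ j) := by
  classical
  have hcov : ∀ x : X₀, ∃ (V : Y₀.Opens) (U : X₀.Opens) (_ : U ≤ f₀ ⁻¹ᵁ V), IsAffineOpen V ∧ IsAffineOpen U ∧ x ∈ U := by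
    intro x
    obtain ⟨_, ⟨V, hV, rfl⟩, hxV, -⟩ :=
      Y₀.isBasis_affineOpens.exists_subset_of_mem_open (Set.mem_univ (f₀ x)) isOpen_univ
    obtain ⟨_, ⟨U, hU, rfl⟩, hxU, hUV⟩ :=
      X₀.isBasis_affineOpens.exists_subset_of_mem_open (show x ∈ (f₀ ⁻¹ᵁ V).1 from hxV) (f₀ ⁻¹ᵁ V).2
    exact ⟨V, U, hUV, hV, hU, hxU⟩
  choose V U hUV hV hU hxU using hcov
  obtain ⟨T, hT⟩ := (isCompact_univ (X := X₀)).elim_finite_subcover (fun x => (U x : Set X₀)) (fun x => (U x).2)
    fun x _ => Set.mem_iUnion.2 ⟨x, hxU x⟩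
  have key : ∀ x : X₀, ∃ j : Over i₀, Flat (stageMap D ((V x).ι ≫ g₀) (f₀.resLE (V x) (U x) (hUV x)) j) := by
    intro x
    have : IsAffine (V x).toScheme := hV x
    have : IsAffine (U x).toScheme := hU x
    have hY' : IsPullback (qY ∣_ V x) ((qY ⁻¹ᵁ V x).ι ≫ g) ((V x).ι ≫ g₀) (c.π.app i₀) :=
      (isPullback_morphismRestrict qY (V x)).paste_vert hY
    have hle : qX ⁻¹ᵁ U x ≤ f ⁻¹ᵁ (qY ⁻¹ᵁ V x) := by
      rw [← Scheme.Hom.comp_preimage, ← hX.w, Scheme.Hom.comp_preimage]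
      exact qX.preimage_mono (hUV x)
    have hX' : IsPullback (qX ∣_ U x) (f.resLE (qY ⁻¹ᵁ V x) (qX ⁻¹ᵁ U x) hle)
        (f₀.resLE (V x) (U x) (hUV x)) (qY ∣_ V x) := by
      refine IsPullback.of_bot ?_ ?_ (isPullback_morphismRestrict qY (V x))
      · rw [Scheme.Hom.resLE_comp_ι, Scheme.Hom.resLE_comp_ι]
        exact (isPullback_morphismRestrict qX (U x)).paste_vert hX
      · rw [← cancel_mono (V x).ι, Category.assoc, Category.assoc, morphismRestrict_ι, Scheme.Hom.resLE_comp_ι,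
          Scheme.Hom.resLE_comp_ι_assoc, morphismRestrict_ι_assoc, hX.w]
    have : Flat (f.resLE (qY ⁻¹ᵁ V x) (qX ⁻¹ᵁ U x) hle) := IsZariskiLocalAtSource.resLE (P := @Flat) _ inferInstance
    have : LocallyOfFinitePresentation (f₀.resLE (V x) (U x) (hUV x)) :=
      IsZariskiLocalAtSource.resLE (P := @LocallyOfFinitePresentation) _ inferInstance
    exact exists_flat_of_isAffine D c hc _ _ hY' hX'
  choose j hj using key
  obtain ⟨l, hl⟩ := IsCofiltered.inf_objs_exists (T.image j)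
  refine ⟨l, ?_⟩
  let 𝒰 : (stage D (f₀ ≫ g₀) l).OpenCover := Scheme.Cover.mkOfCovers T
    (fun x => stage D ((U x.1).ι ≫ f₀ ≫ g₀) l) (fun x => stageMap D (f₀ ≫ g₀) (U x.1).ι l)
    (fun z => by
      obtain ⟨x, hxT, hx⟩ : ∃ x ∈ T, toBase D (f₀ ≫ g₀) l z ∈ U x := by
        simpa using hT (Set.mem_univ (toBase D (f₀ ≫ g₀) l z))
      obtain ⟨w, hw, -⟩ := Scheme.exists_preimage_of_isPullback (isPullback_stageMap D (f₀ ≫ g₀) (U x).ι l).flip
        z ⟨toBase D (f₀ ≫ g₀) l z, hx⟩ rfl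
      exact ⟨⟨x, hxT⟩, w, hw⟩)
    (fun x => MorphismProperty.of_isPullback (P := @IsOpenImmersion)
      (isPullback_stageMap D (f₀ ≫ g₀) (U x.1).ι l) inferInstance)
  refine (IsZariskiLocalAtSource.iff_of_openCover (P := @Flat) 𝒰).2 fun x => ?_
  change Flat (stageMap D (f₀ ≫ g₀) (U x.1).ι l ≫ stageMap D g₀ f₀ l)
  have a : l ⟶ j x.1 := (hl (Finset.mem_image_of_mem j x.2)).some
  have : Flat (stageMap D ((V x.1).ι ≫ g₀) (f₀.resLE (V x.1) (U x.1) (hUV x.1)) l) :=
    MorphismProperty.of_isPullback (P := @Flat) (isPullback_trans_stageMap D ((V x.1).ι ≫ g₀) _ a) (hj x.1)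
  have : IsOpenImmersion (stageMap D g₀ (V x.1).ι l) :=
    MorphismProperty.of_isPullback (P := @IsOpenImmersion) (isPullback_stageMap D g₀ (V x.1).ι l) inferInstance
  have h1 := (isPullback_stageMap D (f₀ ≫ g₀) (U x.1).ι l).paste_vert (isPullback_stageMap D g₀ f₀ l)
  have h2 := (isPullback_stageMap D ((V x.1).ι ≫ g₀) (f₀.resLE (V x.1) (U x.1) (hUV x.1)) l).paste_vert
    (isPullback_stageMap D g₀ (V x.1).ι l)
  rw [Scheme.Hom.resLE_comp_ι] at h2
  rw [← h1.isoIsPullback_hom_snd _ _ h2]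
  exact (MorphismProperty.cancel_left_of_respectsIso @Flat _ _).2 inferInstance

end Groth.Agent.FlatSpread
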