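import Groth.Agent.FlatSpread.Main
import Mathlib.RingTheory.FinitePresentation
import Mathlib.RingTheory.Spectrum.Prime.Topology
import Mathlib.Algebra.Module.FinitePresentation

/-!
Finitely presented algebras and modules: models over finite type ℤ-algebras, openness of the flat locus.
-/

set_option autoImplicit false
universe u

open MvPolynomial

namespace Groth.Agent.FlatSpread

variable {σ : Type} {ι : Type} [Finite σ] [Finite ι] {A : Type u} [CommRing A]

/-- a flat localised quotient descends to a finite type `ℤ`-algebra -/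
theorem exists_model_fl' {W : Submodule (MvPolynomial σ A) (ι → MvPolynomial σ A)}
    (T : Finset (ι → MvPolynomial σ A)) (hT : Submodule.span (MvPolynomial σ A) (T : Set (ι → MvPolynomial σ A)) = W)
    (E : Finset (MvPolynomial σ A)) {GA : Submonoid (MvPolynomial σ A)} (hA : Fl (⊥ : Ideal A) GA W) :
    ∃ (R₀ : Type u) (_ : CommRing R₀) (φ : R₀ →+* A), Algebra.FiniteType ℤ R₀ ∧ Function.Injective φ ∧
      ∃ (W₀ : Submodule (MvPolynomial σ R₀) (ι → MvPolynomial σ R₀)) (g₀ : MvPolynomial σ R₀),
        ext φ W₀ = W ∧ MvPolynomial.map φ g₀ ∈ GA ∧ Fl (⊥ : Ideal R₀) (Submonoid.powers g₀) W₀ ∧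
          (∀ x ∈ T, ∃ x₀ ∈ W₀, kL φ x₀ = x) ∧ ∀ p ∈ E, ∃ p₀, MvPolynomial.map φ p₀ = p := by
  classical
  haveI := Fintype.ofFinite ι
  let c : Finset A := (T.biUnion fun x => Finset.univ.biUnion fun i => (x i).support.image fun α => (x i).coeff α) ∪
    E.biUnion fun p => p.support.image fun α => p.coeff α
  let C₀ : Subalgebra ℤ A := Algebra.adjoin ℤ (c : Set A)
  haveI : Algebra.FiniteType ℤ C₀ := ⟨(Subalgebra.fg_top _).2 ⟨c, rfl⟩⟩
  haveI : IsNoetherianRing C₀ := Algebra.FiniteType.isNoetherianRing ℤ C₀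
  have hlift : ∀ p : MvPolynomial σ A, (∀ α ∈ p.support, p.coeff α ∈ c) →
      ∃ q : MvPolynomial σ C₀, MvPolynomial.map (algebraMap C₀ A) q = p := by
    intro p hp
    refine ⟨∑ α ∈ p.support.attach, monomial α.1 (⟨p.coeff α.1, Algebra.subset_adjoin (hp α.1 α.2)⟩ : C₀), ?_⟩
    rw [map_sum]
    refine (Finset.sum_congr rfl fun α _ => map_monomial _ _ _).trans ?_
    exact (Finset.sum_attach p.support fun α => monomial α (p.coeff α)).trans p.as_sum.symm
  let W₀ : Submodule (MvPolynomial σ C₀) (ι → MvPolynomial σ C₀) :=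
    Submodule.span _ {x | kL (algebraMap C₀ A) x ∈ T}
  have hW₀ : ext (algebraMap C₀ A) W₀ = W := by
    refine le_antisymm (Submodule.span_le.2 ?_) ?_
    · rintro _ ⟨x, hx, rfl⟩
      induction hx using Submodule.span_induction with
      | mem x hx => exact hT ▸ Submodule.subset_span hx
      | zero => simp
      | add a b _ _ ha hb => rw [map_add]; exact add_mem ha hb
      | smul p a _ ha => rw [LinearMap.map_smulₛₗ]; exact W.smul_mem _ ha
    · rw [← hT, Submodule.span_le]
      intro x hx
      have hmem : ∀ i, ∃ q : MvPolynomial σ C₀, MvPolynomial.map (algebraMap C₀ A) q = x i := fun i =>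
        hlift (x i) fun α hα => Finset.mem_union_left _ (Finset.mem_biUnion.2 ⟨x, hx, Finset.mem_biUnion.2
          ⟨i, Finset.mem_univ i, Finset.mem_image_of_mem _ hα⟩⟩)
      choose q hq using hmem
      exact Submodule.subset_span ⟨q, Submodule.subset_span (show kL (algebraMap C₀ A) q ∈ T from
        (show kL (algebraMap C₀ A) q = x from funext hq) ▸ hx), funext hq⟩
  obtain ⟨t, ht⟩ := exists_fl_stage (C₀ := C₀) (W := W₀) (GA := GA) (hW₀.symm ▸ hA)
  haveI : Algebra.FiniteType C₀ t.D := ⟨(Subalgebra.fg_top _).2 t.fg⟩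
  refine ⟨t.D, inferInstance, t.D.val.toRingHom, Algebra.FiniteType.trans (S := C₀) inferInstance inferInstance,
    Subtype.val_injective, ext (algebraMap C₀ t.D) W₀, t.g, ?_, t.hg, ht,
    fun x hx => ?_, fun p hp => ?_⟩
  · rw [ext_ext]
    exact hW₀
  · choose q hq using fun i => hlift (x i) fun α hα => Finset.mem_union_left _ (Finset.mem_biUnion.2 ⟨x, hx,
      Finset.mem_biUnion.2 ⟨i, Finset.mem_univ i, Finset.mem_image_of_mem _ hα⟩⟩)
    refine ⟨_, kL_mem_ext _ (Submodule.subset_span (show kL (algebraMap C₀ A) q ∈ T from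
      (show kL (algebraMap C₀ A) q = x from funext hq) ▸ hx)), funext fun i => ?_⟩
    change MvPolynomial.map t.D.val.toRingHom (MvPolynomial.map (algebraMap C₀ t.D) (q i)) = x i
    rw [MvPolynomial.map_map]
    exact hq i
  · obtain ⟨q, hq⟩ := hlift p fun α hα =>
      Finset.mem_union_right _ (Finset.mem_biUnion.2 ⟨p, hp, Finset.mem_image_of_mem _ hα⟩)
    refine ⟨MvPolynomial.map (algebraMap C₀ t.D) q, ?_⟩
    rw [MvPolynomial.map_map]
    exact hq

/-- a flat localised quotient descends to a finite type `ℤ`-algebra -/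
theorem exists_model_fl {W : Submodule (MvPolynomial σ A) (ι → MvPolynomial σ A)} (hW : W.FG)
    {GA : Submonoid (MvPolynomial σ A)} (hA : Fl (⊥ : Ideal A) GA W) :
    ∃ (R₀ : Type u) (_ : CommRing R₀) (φ : R₀ →+* A), Algebra.FiniteType ℤ R₀ ∧ Function.Injective φ ∧
      ∃ (W₀ : Submodule (MvPolynomial σ R₀) (ι → MvPolynomial σ R₀)) (g₀ : MvPolynomial σ R₀),
        ext φ W₀ = W ∧ MvPolynomial.map φ g₀ ∈ GA ∧ Fl (⊥ : Ideal R₀) (Submonoid.powers g₀) W₀ := by
  obtain ⟨T, hT⟩ := hW
  obtain ⟨R₀, i1, φ, h1, h2, W₀, g₀, h3, h4, h5, -, -⟩ := exists_model_fl' T hT ∅ hA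
  exact ⟨R₀, i1, φ, h1, h2, W₀, g₀, h3, h4, h5⟩

/-- the flat locus contains a principal neighbourhood of each of its points -/
theorem exists_fl_powers {W : Submodule (MvPolynomial σ A) (ι → MvPolynomial σ A)} (hW : W.FG)
    {GA : Submonoid (MvPolynomial σ A)} (hA : Fl (⊥ : Ideal A) GA W) :
    ∃ g ∈ GA, Fl (⊥ : Ideal A) (Submonoid.powers g) W := by
  obtain ⟨R₀, _, φ, -, -, W₀, g₀, hW₀, hg, hfl⟩ := exists_model_fl hW hA
  refine ⟨_, hg, ?_⟩
  have := Fl.baseChange φ hfl (G' := Submonoid.powers (MvPolynomial.map φ g₀))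
    (by rintro _ ⟨n, rfl⟩; exact ⟨n, (map_pow _ _ _).symm⟩)
  rwa [Ideal.map_bot, hW₀] at this

/-- a finitely presented module over a finitely presented algebra as a cokernel over a polynomial ring -/
theorem exists_presentation {R S M : Type u} [CommRing R] [CommRing S] [Algebra R S]
    [Algebra.FinitePresentation R S] [AddCommGroup M] [Module S M] [Module.FinitePresentation S M] :
    ∃ (n m : ℕ) (π : MvPolynomial (Fin n) R →ₐ[R] S), Function.Surjective π ∧ (RingHom.ker π.toRingHom).FG ∧
      ∃ W : Submodule (MvPolynomial (Fin n) R) (Fin m → MvPolynomial (Fin n) R), W.FG ∧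
        letI : Module (MvPolynomial (Fin n) R) M := Module.compHom M π.toRingHom
        Nonempty (((Fin m → MvPolynomial (Fin n) R) ⧸ W) ≃ₗ[MvPolynomial (Fin n) R] M) := by
  obtain ⟨n, π, hπ, hker⟩ := Algebra.FinitePresentation.out (R := R) (A := S)
  letI : Algebra (MvPolynomial (Fin n) R) S := π.toRingHom.toAlgebra
  letI : Module (MvPolynomial (Fin n) R) M := Module.compHom M π.toRingHom
  haveI : IsScalarTower (MvPolynomial (Fin n) R) S M := ⟨fun p s x => by
    change ((π p) * s) • x = π p • s • x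
    rw [mul_smul]⟩
  haveI : Module.Finite (MvPolynomial (Fin n) R) S :=
    Module.Finite.of_surjective (Algebra.linearMap (MvPolynomial (Fin n) R) S) hπ
  haveI : Module.FinitePresentation (MvPolynomial (Fin n) R) S :=
    Module.finitePresentation_of_surjective (Algebra.linearMap (MvPolynomial (Fin n) R) S) hπ hker
  haveI : Module.FinitePresentation (MvPolynomial (Fin n) R) M :=
    Module.FinitePresentation.trans (MvPolynomial (Fin n) R) M S
  obtain ⟨m, K, e, hK⟩ := Module.FinitePresentation.exists_fin (MvPolynomial (Fin n) R) M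
  exact ⟨n, m, π, hπ, hker, K, hK, ⟨e.symm⟩⟩

/-- localising over a quotient algebra -/
theorem flat_localized_iff {R S M : Type u} [CommRing R] [CommRing S] [Algebra R S] [AddCommGroup M] [Module S M]
    [Module R M] [IsScalarTower R S M] {n m : ℕ} (π : MvPolynomial (Fin n) R →ₐ[R] S)
    (W : Submodule (MvPolynomial (Fin n) R) (Fin m → MvPolynomial (Fin n) R))
    (e : letI : Module (MvPolynomial (Fin n) R) M := Module.compHom M π.toRingHom
      ((Fin m → MvPolynomial (Fin n) R) ⧸ W) ≃ₗ[MvPolynomial (Fin n) R] M)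
    (G : Submonoid (MvPolynomial (Fin n) R)) :
    Module.Flat R (LocalizedModule (G.map π.toRingHom) M) ↔ Fl (⊥ : Ideal R) G W := by
  letI : Algebra (MvPolynomial (Fin n) R) S := π.toRingHom.toAlgebra
  letI : Module (MvPolynomial (Fin n) R) M := Module.compHom M π.toRingHom
  haveI : IsScalarTower (MvPolynomial (Fin n) R) S M := ⟨fun p s x => by
    change ((π p) * s) • x = π p • s • x
    rw [mul_smul]⟩
  haveI : IsScalarTower R (MvPolynomial (Fin n) R) S := IsScalarTower.of_algebraMap_eq fun r => (π.commutes r).symm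
  haveI : IsScalarTower R (MvPolynomial (Fin n) R) M := ⟨fun r p x => by
    change π (r • p) • x = r • π p • x
    rw [map_smul, smul_assoc]⟩
  have heq : Algebra.algebraMapSubmonoid S G = G.map π.toRingHom := rfl
  let g := ((LocalizedModule.mkLinearMap (G.map π.toRingHom) M).restrictScalars (MvPolynomial (Fin n) R)).comp
    e.toLinearMap
  haveI : IsLocalizedModule (Algebra.algebraMapSubmonoid S G)
      (LocalizedModule.mkLinearMap (G.map π.toRingHom) M) := heq ▸ inferInstance
  haveI : IsLocalizedModule G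
      ((LocalizedModule.mkLinearMap (G.map π.toRingHom) M).restrictScalars (MvPolynomial (Fin n) R)) :=
    IsLocalizedModule.restrictScalars _ _
  haveI : IsLocalizedModule G g := IsLocalizedModule.of_linearEquiv_right G
    ((LocalizedModule.mkLinearMap (G.map π.toRingHom) M).restrictScalars (MvPolynomial (Fin n) R)) e
  haveI : IsScalarTower R (MvPolynomial (Fin n) R) (LocalizedModule (G.map π.toRingHom) M) :=
    ⟨fun r p x => by
      rw [← IsScalarTower.algebraMap_smul S (r • p) x, ← IsScalarTower.algebraMap_smul S p x]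
      change π (r • p) • x = r • π p • x
      rw [map_smul, smul_assoc]⟩
  let f := (IsLocalizedModule.iso G g).restrictScalars R
  constructor
  · intro h
    haveI : Module.Flat R (LocalizedModule G ((Fin m → MvPolynomial (Fin n) R) ⧸ W)) := Module.Flat.of_linearEquiv f
    exact fl_of_flat G W
  · intro h
    haveI := flat_of_fl G W h
    exact Module.Flat.of_linearEquiv f.symm

/-- **Openness of the flat locus** for finitely presented modules. -/
theorem isOpen_flatLocus {R S M : Type u} [CommRing R] [CommRing S] [Algebra R S] [Algebra.FinitePresentation R S]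
    [AddCommGroup M] [Module S M] [Module R M] [IsScalarTower R S M] [Module.FinitePresentation S M] :
    IsOpen {q : PrimeSpectrum S | Module.Flat R (LocalizedModule q.asIdeal.primeCompl M)} := by
  obtain ⟨n, m, π, hπ, -, W, hW, ⟨e⟩⟩ := exists_presentation (R := R) (S := S) (M := M)
  refine isOpen_iff_forall_mem_open.2 fun q hq => ?_
  have hcomap : ∀ q : PrimeSpectrum S,
      (q.asIdeal.comap π.toRingHom).primeCompl.map π.toRingHom = q.asIdeal.primeCompl := fun q => by
    ext s
    constructor
    · rintro ⟨p, hp, rfl⟩; exact hp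
    · intro hs
      obtain ⟨p, rfl⟩ := hπ s
      exact ⟨p, hs, rfl⟩
  have hfl : Fl (⊥ : Ideal R) (q.asIdeal.comap π.toRingHom).primeCompl W := by
    refine (flat_localized_iff π W e _).1 ?_
    rw [hcomap]
    exact hq
  obtain ⟨g, hg, hgfl⟩ := exists_fl_powers hW hfl
  refine ⟨PrimeSpectrum.basicOpen (π g), fun q' hq' => ?_, PrimeSpectrum.isOpen_basicOpen, hg⟩
  have hg' : g ∈ (q'.asIdeal.comap π.toRingHom).primeCompl := hq'
  have := (flat_localized_iff π W e (q'.asIdeal.comap π.toRingHom).primeCompl).2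
    (hgfl.mono_monoid fun s hs => ⟨s, (Submonoid.powers_le.2 hg') hs, dvd_rfl⟩)
  rw [hcomap] at this
  exact this

end Groth.Agent.FlatSpread
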