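import Groth.Agent.FlatSpread.Relation
import Groth.Agent.LocalCrit.Basic
import Mathlib.Algebra.Module.LocalizedModule.Exact
import Mathlib.RingTheory.Flat.Stability
import Mathlib.RingTheory.Flat.Localization
import Mathlib.RingTheory.Localization.BaseChange

/-!
The relation-module criterion and flatness of the localised quotient module.
-/

set_option autoImplicit false
universe u

open MvPolynomial

namespace Groth.Agent.FlatSpread

variable {σ : Type} {ι : Type} {R : Type u} [CommRing R]

lemma map_C_smul_mem {X : Type u} [AddCommGroup X] [Module R X] [Module (MvPolynomial σ R) X]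
    [IsScalarTower R (MvPolynomial σ R) X] {J : Ideal R} {r : MvPolynomial σ R}
    (hr : r ∈ J.map (C : R →+* MvPolynomial σ R)) (y : X) : r • y ∈ J • (⊤ : Submodule R X) := by
  revert y
  induction hr using Submodule.span_induction with
  | mem r hr =>
    intro y
    obtain ⟨a, ha, rfl⟩ := hr
    rw [← MvPolynomial.algebraMap_eq, algebraMap_smul]
    exact Submodule.smul_mem_smul ha trivial
  | zero => intro y; rw [zero_smul]; exact zero_mem _
  | add a b _ _ ha hb => intro y; rw [add_smul]; exact add_mem (ha y) (hb y)
  | smul p a _ ha => intro y; rw [smul_eq_mul, mul_comm, mul_smul]; exact ha (p • y)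

lemma exists_of_mem_smul_top (G : Submonoid (MvPolynomial σ R)) {X : Type u} [AddCommGroup X]
    [Module (MvPolynomial σ R) X] [Module R X] [IsScalarTower R (MvPolynomial σ R) X]
    {J : Ideal R} {x : LocalizedModule G X} (hx : x ∈ J • (⊤ : Submodule R (LocalizedModule G X))) :
    ∃ s ∈ G, ∃ a ∈ J.map (C : R →+* MvPolynomial σ R) • (⊤ : Submodule (MvPolynomial σ R) X),
      s • x = LocalizedModule.mk a 1 := by
  induction hx using Submodule.smul_induction_on' with
  | smul c hc x _ =>
    induction x using LocalizedModule.induction_on with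
    | h b t =>
      refine ⟨t.1, t.2, (C c : MvPolynomial σ R) • b, Submodule.smul_mem_smul (Ideal.mem_map_of_mem _ hc) trivial, ?_⟩
      rw [← algebraMap_smul (MvPolynomial σ R) c (LocalizedModule.mk b t), smul_smul, mul_comm, mul_smul,
        LocalizedModule.smul'_mk, LocalizedModule.smul'_mk, MvPolynomial.algebraMap_eq, smul_comm]
      exact LocalizedModule.mk_cancel t ((C c : MvPolynomial σ R) • b) ▸ rfl
  | add x _ y _ hx hy =>
    obtain ⟨s, hs, a, ha, hx⟩ := hx
    obtain ⟨t, ht, b, hb, hy⟩ := hy
    refine ⟨t * s, mul_mem ht hs, t • a + s • b, add_mem (Submodule.smul_mem _ t ha) (Submodule.smul_mem _ s hb), ?_⟩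
    rw [smul_add, mul_smul, hx, mul_comm, mul_smul, hy, LocalizedModule.smul'_mk, LocalizedModule.smul'_mk,
      LocalizedModule.mk_add_mk]
    simp

lemma mk_mem_smul_top (G : Submonoid (MvPolynomial σ R)) {X : Type u} [AddCommGroup X]
    [Module (MvPolynomial σ R) X] [Module R X] [IsScalarTower R (MvPolynomial σ R) X] {J : Ideal R} {a : X}
    (ha : a ∈ J.map (C : R →+* MvPolynomial σ R) • (⊤ : Submodule (MvPolynomial σ R) X)) (t : G) :
    LocalizedModule.mk a t ∈ J • (⊤ : Submodule R (LocalizedModule G X)) := by
  induction ha using Submodule.smul_induction_on' with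
  | smul r hr b _ => rw [← LocalizedModule.smul'_mk]; exact map_C_smul_mem hr _
  | add x _ y _ hx hy =>
    have : LocalizedModule.mk (x + y) t = LocalizedModule.mk x t + LocalizedModule.mk y t :=
      by
        rw [LocalizedModule.mk_add_mk, ← smul_add]
        exact (LocalizedModule.mk_cancel_common_left t t (x + y)).symm
    rw [this]
    exact add_mem hx hy

variable [Finite ι] (G : Submonoid (MvPolynomial σ R)) (W : Submodule (MvPolynomial σ R) (ι → MvPolynomial σ R))

/-- the localised inclusion -/
noncomputable def locι : LocalizedModule G W →ₗ[R] LocalizedModule G (ι → MvPolynomial σ R) :=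
  ((LocalizedModule.map G W.subtype).restrictScalars R)

/-- the localised projection -/
noncomputable def locπ : LocalizedModule G (ι → MvPolynomial σ R) →ₗ[R] LocalizedModule G ((ι → MvPolynomial σ R) ⧸ W) :=
  ((LocalizedModule.map G W.mkQ).restrictScalars R)

lemma locι_injective : Function.Injective (locι G W) :=
  LocalizedModule.map_injective G W.subtype W.injective_subtype

lemma locπ_surjective : Function.Surjective (locπ G W) :=
  LocalizedModule.map_surjective G W.mkQ W.mkQ_surjective

lemma loc_exact : Function.Exact (locι G W) (locπ G W) :=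
  LocalizedModule.map_exact G W.subtype W.mkQ (LinearMap.exact_subtype_mkQ W)

/-- flatness gives the criterion -/
theorem fl_of_flat [Module.Flat R (LocalizedModule G ((ι → MvPolynomial σ R) ⧸ W))] : Fl (⊥ : Ideal R) G W := by
  intro J _ w hw hwJ
  have h1 : locι G W (LocalizedModule.mk ⟨w, hw⟩ 1) ∈
      J • (⊤ : Submodule R (LocalizedModule G (ι → MvPolynomial σ R))) := by
    change LocalizedModule.map G W.subtype (LocalizedModule.mk ⟨w, hw⟩ 1) ∈ _
    rw [LocalizedModule.map_mk]
    exact mk_mem_smul_top G (by rw [← cf_eq]; exact hwJ) 1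
  have h2 := @LocalCrit.mem_smul_of_map_mem_of_mulMap_injective R _ (LocalizedModule G W) (LocalizedModule G ((ι → MvPolynomial σ R) ⧸ W)) (LocalizedModule G (ι → MvPolynomial σ R)) _ _ _ _ _ _ (locι G W) (locι_injective G W) (locπ G W)
    (locπ_surjective G W) (loc_exact G W) J (LocalCrit.mulMap_injective J) _ h1
  obtain ⟨s, hs, a, ha, he⟩ := exists_of_mem_smul_top G h2
  rw [LocalizedModule.smul'_mk] at he
  obtain ⟨c, hc⟩ := LocalizedModule.mk_eq.1 he
  simp only [one_smul] at hc
  refine ⟨(c : MvPolynomial σ R) * s, mul_mem c.2 hs, Submodule.mem_sup_left ?_⟩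
  have ha' : (a : ι → MvPolynomial σ R) ∈ J.map (C : R →+* MvPolynomial σ R) • W := by
    have := Submodule.mem_map_of_mem (f := W.subtype) ha
    rwa [Submodule.map_smul'', Submodule.map_top, Submodule.range_subtype] at this
  rw [mul_smul]
  have hc' : (c : MvPolynomial σ R) • s • w = (c : MvPolynomial σ R) • (a : ι → MvPolynomial σ R) :=
    congrArg Subtype.val hc
  rw [hc']
  exact Submodule.smul_mem _ _ ha'

/-- the criterion gives flatness -/
theorem flat_of_fl (h : Fl (⊥ : Ideal R) G W) : Module.Flat R (LocalizedModule G ((ι → MvPolynomial σ R) ⧸ W)) := by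
  haveI : Module.Flat R (LocalizedModule G (ι → MvPolynomial σ R)) := by
    haveI : Module.Flat (Localization G) (LocalizedModule G (ι → MvPolynomial σ R)) :=
      Module.Flat.localizedModule G
    haveI : Module.Flat (MvPolynomial σ R) (Localization G) := IsLocalization.flat _ G
    haveI : Module.Flat (MvPolynomial σ R) (LocalizedModule G (ι → MvPolynomial σ R)) :=
      Module.Flat.trans (MvPolynomial σ R) (Localization G) _
    exact Module.Flat.trans R (MvPolynomial σ R) _
  refine @LocalCrit.flat_of_exact R _ (LocalizedModule G W) (LocalizedModule G ((ι → MvPolynomial σ R) ⧸ W)) (LocalizedModule G (ι → MvPolynomial σ R)) _ _ _ _ _ _ _ (locι G W) (locι_injective G W) (locπ G W) (locπ_surjective G W)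
    (loc_exact G W) fun J _ x hx => ?_
  induction x using LocalizedModule.induction_on with
  | h w t =>
    change LocalizedModule.map G W.subtype (LocalizedModule.mk w t) ∈ _ at hx
    rw [LocalizedModule.map_mk] at hx
    obtain ⟨s, hs, a, ha, he⟩ := exists_of_mem_smul_top G hx
    rw [LocalizedModule.smul'_mk] at he
    obtain ⟨c, hc⟩ := LocalizedModule.mk_eq.1 he
    simp only [one_smul, Submodule.subtype_apply] at hc
    have hw' : ((c : MvPolynomial σ R) * s) • (w : ι → MvPolynomial σ R) ∈ cf J := by
      rw [mul_smul]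
      have hc' : (c : MvPolynomial σ R) • s • (w : ι → MvPolynomial σ R) = (c : MvPolynomial σ R) • (t : MvPolynomial σ R) • a := hc
      rw [hc', cf_eq]
      exact Submodule.smul_mem _ _ (Submodule.smul_mem _ _ ha)
    obtain ⟨s', hs', hsw⟩ := h J bot_le _ (W.smul_mem _ w.2) hw'
    have hsw' : (s' * ((c : MvPolynomial σ R) * s)) • (w : ι → MvPolynomial σ R) ∈
        (J.map (C : R →+* MvPolynomial σ R)) • W := by
      rw [mul_smul]
      rwa [show (cf (⊥ : Ideal R) : Submodule (MvPolynomial σ R) (ι → MvPolynomial σ R)) = ⊥ by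
        rw [cf_eq, Ideal.map_bot, Submodule.bot_smul], sup_bot_eq] at hsw
    let u : G := ⟨s' * ((c : MvPolynomial σ R) * s), mul_mem hs' (mul_mem c.2 hs)⟩
    rw [← LocalizedModule.mk_cancel_common_left u t w]
    refine mk_mem_smul_top G ?_ _
    have hmap : (J.map (C : R →+* MvPolynomial σ R)) • W =
        Submodule.map W.subtype ((J.map (C : R →+* MvPolynomial σ R)) • (⊤ : Submodule (MvPolynomial σ R) W)) := by
      rw [Submodule.map_smul'', Submodule.map_top, Submodule.range_subtype]
    obtain ⟨y, hy, hye⟩ := (SetLike.ext_iff.1 hmap _).1 hsw'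
    rwa [show u • w = y from Subtype.ext hye.symm]

end Groth.Agent.FlatSpread
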