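import Groth.Agent.FlatSpread.BaseChange
import Groth.Agent.FlatSpread.Module
import Groth.Agent.GenFree.Main
import Mathlib.RingTheory.Adjoin.FG
import Mathlib.RingTheory.FiniteType

/-!
Flatness descends to a stage of finite type (EGA IV 11.2.6), without Tor.
-/

set_option autoImplicit false
universe u v

open MvPolynomial

namespace Groth.Agent.FlatSpread

variable {σ : Type} {ι : Type}

lemma ext_ext {R R' R'' : Type u} [CommRing R] [CommRing R'] [CommRing R''] (φ : R →+* R') (ψ : R' →+* R'')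
    (W : Submodule (MvPolynomial σ R) (ι → MvPolynomial σ R)) : ext ψ (ext φ W) = ext (ψ.comp φ) W := by
  have hcomp : ∀ w : ι → MvPolynomial σ R, kL ψ (kL φ w) = kL (ψ.comp φ) w := fun w => funext fun i => by
    change MvPolynomial.map ψ (MvPolynomial.map φ (w i)) = _
    rw [MvPolynomial.map_map]
    rfl
  refine le_antisymm (Submodule.span_le.2 ?_) (Submodule.span_le.2 ?_)
  · rintro _ ⟨n, hn, rfl⟩
    induction hn using Submodule.span_induction with
    | mem x hx =>
      obtain ⟨w, hw, rfl⟩ := hx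
      rw [hcomp]; exact kL_mem_ext _ hw
    | zero => simp
    | add x y _ _ hx hy => rw [map_add]; exact add_mem hx hy
    | smul p x _ hx => rw [LinearMap.map_smulₛₗ]; exact Submodule.smul_mem _ _ hx
  · rintro _ ⟨w, hw, rfl⟩
    rw [← hcomp]
    exact kL_mem_ext _ (kL_mem_ext _ hw)

/-- the criterion over a quotient gives it modulo the kernel -/
theorem fl_of_surjective {R R' : Type u} [CommRing R] [CommRing R'] [Finite ι] (φ : R →+* R')
    (hφ : Function.Surjective φ) (f : R) {W : Submodule (MvPolynomial σ R) (ι → MvPolynomial σ R)}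
    (h : Fl (⊥ : Ideal R') (Submonoid.powers (C (φ f) : MvPolynomial σ R')) (ext φ W)) :
    Fl (RingHom.ker φ) (Submonoid.powers (C f : MvPolynomial σ R)) W := by
  intro J hJ w hw hwJ
  obtain ⟨_, ⟨n, rfl⟩, hs⟩ := h (J.map φ) bot_le _ (kL_mem_ext φ hw) (kL_mem_cf φ hwJ)
  obtain ⟨a, ha, b, hb, hab⟩ := Submodule.mem_sup.1 hs
  have hb0 : b = 0 := funext fun i => MvPolynomial.ext _ _ fun α => by simpa using mem_cf.1 hb i α
  subst hb0
  have hlift : ∀ y ∈ ext φ W, ∃ x ∈ W, kL φ x = y := by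
    intro y hy
    induction hy using Submodule.span_induction with
    | mem y hy => obtain ⟨x, hx, rfl⟩ := hy; exact ⟨x, hx, rfl⟩
    | zero => exact ⟨0, W.zero_mem, map_zero _⟩
    | add y z _ _ hy hz =>
      obtain ⟨x, hx, rfl⟩ := hy
      obtain ⟨x', hx', rfl⟩ := hz
      exact ⟨x + x', W.add_mem hx hx', map_add _ _ _⟩
    | smul p y _ hy =>
      obtain ⟨x, hx, rfl⟩ := hy
      obtain ⟨q, rfl⟩ := MvPolynomial.map_surjective φ hφ p
      exact ⟨q • x, W.smul_mem q hx, LinearMap.map_smulₛₗ _ _ _⟩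
  have hlift2 : ∀ y ∈ (J.map φ).map (C : R' →+* MvPolynomial σ R') • ext φ W,
      ∃ x ∈ J.map (C : R →+* MvPolynomial σ R) • W, kL φ x = y := by
    intro y hy
    induction hy using Submodule.smul_induction_on' with
    | smul r hr y hy =>
      have hmm : (J.map φ).map (C : R' →+* MvPolynomial σ R') =
          (J.map (C : R →+* MvPolynomial σ R)).map (MvPolynomial.map φ) := by
        rw [Ideal.map_map, Ideal.map_map]
        congr 1
        exact RingHom.ext fun c => (MvPolynomial.map_C φ c).symm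
      rw [hmm, Ideal.mem_map_iff_of_surjective _ (MvPolynomial.map_surjective φ hφ)] at hr
      obtain ⟨q, hq, rfl⟩ := hr
      obtain ⟨x, hx, rfl⟩ := hlift y hy
      exact ⟨q • x, Submodule.smul_mem_smul hq hx, LinearMap.map_smulₛₗ _ _ _⟩
    | add y _ z _ hy hz =>
      obtain ⟨x, hx, rfl⟩ := hy
      obtain ⟨x', hx', rfl⟩ := hz
      exact ⟨x + x', add_mem hx hx', map_add _ _ _⟩
  obtain ⟨a', ha', rfl⟩ := hlift2 a ha
  refine ⟨(C f : MvPolynomial σ R) ^ n, ⟨n, rfl⟩, Submodule.mem_sup.2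
    ⟨a', ha', (C f : MvPolynomial σ R) ^ n • w - a', mem_cf.2 fun i α => ?_, by abel⟩⟩
  have hz : kL φ ((C f : MvPolynomial σ R) ^ n • w - a') = 0 := by
    rw [map_sub, LinearMap.map_smulₛₗ, map_pow, map_C, ← hab, add_zero, sub_self]
  have := congrArg (fun q => MvPolynomial.coeff α q) (congrFun hz i)
  change MvPolynomial.coeff α (MvPolynomial.map φ (((C f : MvPolynomial σ R) ^ n • w - a') i)) = _ at this
  rw [coeff_map] at this
  exact RingHom.mem_ker.2 (by simpa using this)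

/-- flat on a dense open of a domain -/
theorem exists_fl_domain {R : Type u} [CommRing R] [IsDomain R] [Finite σ] [Finite ι]
    (W : Submodule (MvPolynomial σ R) (ι → MvPolynomial σ R)) :
    ∃ f : R, f ≠ 0 ∧ Fl (⊥ : Ideal R) (Submonoid.powers (C f : MvPolynomial σ R)) W := by
  obtain ⟨f, hf, hfree, -⟩ := GenFree.generic_freeness (R := R) (S := MvPolynomial σ R)
    (M := (ι → MvPolynomial σ R) ⧸ W)
  refine ⟨f, hf, ?_⟩
  haveI := hfree
  haveI : Module.Flat R (Localization.Away f) := IsLocalization.flat _ (Submonoid.powers f)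
  haveI : Module.Flat R (TensorProduct R (Localization.Away f) ((ι → MvPolynomial σ R) ⧸ W)) :=
    Module.Flat.trans R (Localization.Away f) _
  have heq : Algebra.algebraMapSubmonoid (MvPolynomial σ R) (Submonoid.powers f) =
      Submonoid.powers (C f : MvPolynomial σ R) := by
    rw [Algebra.algebraMapSubmonoid, Submonoid.map_powers, MvPolynomial.algebraMap_eq]
  haveI : IsLocalizedModule (Algebra.algebraMapSubmonoid (MvPolynomial σ R) (Submonoid.powers f))
      (LocalizedModule.mkLinearMap (Submonoid.powers (C f : MvPolynomial σ R)) ((ι → MvPolynomial σ R) ⧸ W)) := by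
    rw [heq]; infer_instance
  haveI : IsLocalizedModule (Submonoid.powers f) ((LocalizedModule.mkLinearMap
      (Submonoid.powers (C f : MvPolynomial σ R)) ((ι → MvPolynomial σ R) ⧸ W)).restrictScalars R) :=
    IsLocalizedModule.restrictScalars _ _
  let e := IsLocalizedModule.linearEquiv (Submonoid.powers f)
    ((LocalizedModule.mkLinearMap (Submonoid.powers (C f : MvPolynomial σ R)) ((ι → MvPolynomial σ R) ⧸ W)).restrictScalars R)
    (TensorProduct.mk R (Localization.Away f) ((ι → MvPolynomial σ R) ⧸ W) 1)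
  haveI : Module.Flat R (LocalizedModule (Submonoid.powers (C f : MvPolynomial σ R)) ((ι → MvPolynomial σ R) ⧸ W)) :=
    Module.Flat.of_linearEquiv e
  exact fl_of_flat _ W

lemma Fl.top {R : Type u} [CommRing R] (G : Submonoid (MvPolynomial σ R))
    (W : Submodule (MvPolynomial σ R) (ι → MvPolynomial σ R)) : Fl (⊤ : Ideal R) G W :=
  fun _ _ w _ _ => ⟨1, one_mem G, Submodule.mem_sup_right (mem_cf.2 fun _ _ => trivial)⟩

variable {C₀ : Type u} {A : Type u} [CommRing C₀] [CommRing A] [Algebra C₀ A]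

/-- true for all subalgebras containing a suitable finite set -/
def Ev (P : Subalgebra C₀ A → Prop) : Prop := ∃ F : Finset A, ∀ D : Subalgebra C₀ A, (F : Set A) ⊆ D → P D

lemma Ev.mono {P Q : Subalgebra C₀ A → Prop} (h : Ev P) (hPQ : ∀ D, P D → Q D) : Ev Q :=
  let ⟨F, hF⟩ := h
  ⟨F, fun D hD => hPQ D (hF D hD)⟩

lemma Ev.and {P Q : Subalgebra C₀ A → Prop} (h : Ev P) (h' : Ev Q) : Ev fun D => P D ∧ Q D := by
  classical
  obtain ⟨F, hF⟩ := h
  obtain ⟨F', hF'⟩ := h'
  refine ⟨F ∪ F', fun D hD => ?_⟩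
  rw [Finset.coe_union, Set.union_subset_iff] at hD
  exact ⟨hF D hD.1, hF' D hD.2⟩

lemma Ev.of_forall {P : Subalgebra C₀ A → Prop} (h : ∀ D, P D) : Ev P := ⟨∅, fun D _ => h D⟩

lemma ev_mem (a : A) : Ev fun D : Subalgebra C₀ A => a ∈ D := ⟨{a}, fun D hD => hD (by simp)⟩

lemma ev_ideal (I : Ideal C₀) {a : A} (ha : a ∈ I.map (algebraMap C₀ A)) :
    Ev fun D : Subalgebra C₀ A => ∃ a' ∈ I.map (algebraMap C₀ D), (a' : A) = a := by
  induction ha using Submodule.span_induction with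
  | mem a ha =>
    obtain ⟨c, hc, rfl⟩ := ha
    exact Ev.of_forall fun D => ⟨algebraMap C₀ D c, Ideal.mem_map_of_mem _ hc, rfl⟩
  | zero => exact Ev.of_forall fun D => ⟨0, zero_mem _, rfl⟩
  | add a b _ _ ha hb =>
    refine (ha.and hb).mono ?_
    rintro D ⟨⟨a', ha', rfl⟩, b', hb', rfl⟩
    exact ⟨a' + b', add_mem ha' hb', rfl⟩
  | smul c a _ ha =>
    refine ((ev_mem c).and ha).mono ?_
    rintro D ⟨hc, a', ha', rfl⟩
    exact ⟨⟨c, hc⟩ * a', Ideal.mul_mem_left _ _ ha', rfl⟩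

lemma ev_poly (p : MvPolynomial σ A) :
    Ev fun D : Subalgebra C₀ A => ∃ q : MvPolynomial σ D, MvPolynomial.map D.val.toRingHom q = p := by
  induction p using MvPolynomial.induction_on' with
  | monomial α c => exact (ev_mem c).mono fun D hc => ⟨monomial α ⟨c, hc⟩, map_monomial _ _ _⟩
  | add p q hp hq =>
    refine (hp.and hq).mono ?_
    rintro D ⟨⟨p', rfl⟩, q', rfl⟩
    exact ⟨p' + q', map_add _ _ _⟩

lemma ev_ext (W : Submodule (MvPolynomial σ C₀) (ι → MvPolynomial σ C₀)) {n : ι → MvPolynomial σ A}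
    (hn : n ∈ ext (algebraMap C₀ A) W) :
    Ev fun D : Subalgebra C₀ A => ∃ n' ∈ ext (algebraMap C₀ D) W, kL D.val.toRingHom n' = n := by
  induction hn using Submodule.span_induction with
  | mem n hn =>
    obtain ⟨w, hw, rfl⟩ := hn
    refine Ev.of_forall fun D => ⟨_, kL_mem_ext _ hw, funext fun i => ?_⟩
    change MvPolynomial.map D.val.toRingHom (MvPolynomial.map _ (w i)) = _
    rw [MvPolynomial.map_map]
    rfl
  | zero => exact Ev.of_forall fun D => ⟨0, zero_mem _, map_zero _⟩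
  | add a b _ _ ha hb =>
    refine (ha.and hb).mono ?_
    rintro D ⟨⟨a', ha', rfl⟩, b', hb', rfl⟩
    exact ⟨a' + b', add_mem ha' hb', map_add _ _ _⟩
  | smul p a _ ha =>
    refine ((ev_poly p).and ha).mono ?_
    rintro D ⟨⟨q, rfl⟩, a', ha', rfl⟩
    exact ⟨q • a', Submodule.smul_mem _ q ha', LinearMap.map_smulₛₗ _ _ _⟩

lemma ev_cf [Finite ι] (I : Ideal C₀) (f : C₀) {e : ι → MvPolynomial σ A}
    (he : e ∈ cf (col (I.map (algebraMap C₀ A)) (algebraMap C₀ A f))) :
    Ev fun D : Subalgebra C₀ A =>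
      ∃ e' ∈ cf (col (I.map (algebraMap C₀ D)) (algebraMap C₀ D f)), kL D.val.toRingHom e' = e := by
  refine vec_induction (P := fun x => Ev fun D : Subalgebra C₀ A =>
      ∃ e' ∈ cf (col (I.map (algebraMap C₀ D)) (algebraMap C₀ D f)), kL D.val.toRingHom e' = x) e
    (Ev.of_forall fun D => ⟨0, zero_mem _, map_zero _⟩) (fun a b ha hb => ?_) fun i => ?_
  · refine (ha.and hb).mono ?_
    rintro D ⟨⟨a', ha', rfl⟩, b', hb', rfl⟩
    exact ⟨a' + b', add_mem ha' hb', map_add _ _ _⟩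
  · refine ((ev_mem ((e i.1).coeff i.2)).and (ev_ideal I (mem_col.1 (mem_cf.1 he i.1 i.2)))).mono ?_
    rintro D ⟨hc, a', ha', hea⟩
    refine ⟨(C (⟨(e i.1).coeff i.2, hc⟩ : D) : MvPolynomial σ D) • vb σ ι D i, C_smul_mem_cf (mem_col.2 ?_) _, ?_⟩
    · have : algebraMap C₀ D f * ⟨(e i.1).coeff i.2, hc⟩ = a' := Subtype.ext hea.symm
      rw [this]
      exact ha'
    · rw [kL_C_smul, kL_vb, C_smul]
      rfl

variable (σ C₀ A) in
/-- a stage: a subalgebra of finite type and a polynomial over it -/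
structure Stage (GA : Submonoid (MvPolynomial σ A)) : Type u where
  D : Subalgebra C₀ A
  fg : D.FG
  g : MvPolynomial σ D
  hg : MvPolynomial.map D.val.toRingHom g ∈ GA

variable {GA : Submonoid (MvPolynomial σ A)}

/-- inclusion of stages -/
noncomputable def incl {D D' : Subalgebra C₀ A} (h : D ≤ D') : D →+* D' := (Subalgebra.inclusion h).toRingHom

lemma incl_comp {D D' : Subalgebra C₀ A} (h : D ≤ D') :
    (incl h).comp (algebraMap C₀ D) = algebraMap C₀ D' := RingHom.ext fun _ => rfl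

/-- the order on stages -/
def Stage.Le (s t : Stage σ C₀ A GA) : Prop :=
  ∃ h : s.D ≤ t.D, MvPolynomial.map (incl h) s.g ∣ t.g

lemma Stage.le_refl (s : Stage σ C₀ A GA) : s.Le s := by
  refine ⟨le_rfl, ?_⟩
  rw [show incl (_root_.le_refl s.D) = RingHom.id s.D from RingHom.ext fun _ => rfl, MvPolynomial.map_id]

lemma Stage.le_trans {s t r : Stage σ C₀ A GA} (h : s.Le t) (h' : t.Le r) : s.Le r := by
  obtain ⟨h, hd⟩ := h
  obtain ⟨h', hd'⟩ := h'
  refine ⟨h.trans h', ?_⟩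
  have e : MvPolynomial.map (incl (h.trans h')) s.g = MvPolynomial.map (incl h') (MvPolynomial.map (incl h) s.g) := by
    rw [MvPolynomial.map_map]; rfl
  rw [e]
  exact (map_dvd (MvPolynomial.map (incl h')) hd).trans hd'

/-- flat modulo `I` at a stage -/
def FlAt (W : Submodule (MvPolynomial σ C₀) (ι → MvPolynomial σ C₀)) (I : Ideal C₀) (t : Stage σ C₀ A GA) : Prop :=
  Fl (I.map (algebraMap C₀ t.D)) (Submonoid.powers t.g) (ext (algebraMap C₀ t.D) W)

variable {W : Submodule (MvPolynomial σ C₀) (ι → MvPolynomial σ C₀)}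

lemma FlAt.mono [Finite ι] {I : Ideal C₀} {s t : Stage σ C₀ A GA} (h : FlAt W I s) (hst : s.Le t) : FlAt W I t := by
  obtain ⟨hD, hd⟩ := hst
  have h1 := Fl.baseChange (incl hD) h (G' := Submonoid.powers (MvPolynomial.map (incl hD) s.g)) (by
    rintro _ ⟨n, rfl⟩
    exact ⟨n, (map_pow _ _ _).symm⟩)
  rw [Ideal.map_map, ext_ext, incl_comp] at h1
  refine h1.mono_monoid ?_
  rintro _ ⟨n, rfl⟩
  exact ⟨t.g ^ n, ⟨n, rfl⟩, pow_dvd_pow_of_dvd hd n⟩

/-- enlarge a stage -/
lemma Stage.exists_ge (s : Stage σ C₀ A GA) {P : Subalgebra C₀ A → Prop} (hP : Ev P) :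
    ∃ t : Stage σ C₀ A GA, s.Le t ∧ P t.D := by
  obtain ⟨F, hF⟩ := hP
  let D' := s.D ⊔ Algebra.adjoin C₀ (F : Set A)
  have hle : s.D ≤ D' := le_sup_left
  refine ⟨⟨D', s.fg.sup ⟨F, rfl⟩, MvPolynomial.map (incl hle) s.g, ?_⟩, ⟨hle, dvd_refl _⟩, hF _ ?_⟩
  · rw [MvPolynomial.map_map]
    exact s.hg
  · exact fun x hx => (le_sup_right : Algebra.adjoin C₀ (F : Set A) ≤ D') (Algebra.subset_adjoin hx)

variable [Finite σ] [Finite ι] [IsNoetherianRing C₀]

lemma stage_noetherian (t : Stage σ C₀ A GA) : IsNoetherianRing t.D :=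
  haveI : Algebra.FiniteType C₀ t.D := ⟨(Subalgebra.fg_top _).2 t.fg⟩
  Algebra.FiniteType.isNoetherianRing C₀ t.D

omit [Finite σ] [IsNoetherianRing C₀] in
/-- colon condition at the limit -/
lemma colon_of_fl_bot {R : Type u} [CommRing R] {G : Submonoid (MvPolynomial σ R)}
    {V : Submodule (MvPolynomial σ R) (ι → MvPolynomial σ R)} (h : Fl (⊥ : Ideal R) G V) (I : Ideal R) (f : R)
    {x : ι → MvPolynomial σ R} (hx : (C f : MvPolynomial σ R) • x ∈ V ⊔ cf I) :
    ∃ s ∈ G, ∃ w ∈ V, ∃ e ∈ cf (col I f), s • x = w + e := by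
  obtain ⟨n, hn, i, hi, hni⟩ := Submodule.mem_sup.1 hx
  have hnJ : n ∈ cf (I ⊔ Ideal.span {f}) := by
    rw [show n = (C f : MvPolynomial σ R) • x - i by rw [← hni]; abel]
    exact sub_mem (C_smul_mem_cf (Ideal.mem_sup_right (Ideal.mem_span_singleton_self f)) x)
      (cf_mono le_sup_left hi)
  obtain ⟨s, hs, hsn⟩ := h _ bot_le n hn hnJ
  rw [Ideal.map_sup, Submodule.sup_smul, Submodule.mem_sup] at hsn
  obtain ⟨ab, hab, z, hz, hsum⟩ := hsn
  obtain ⟨a, ha, b, hb, rfl⟩ := Submodule.mem_sup.1 hab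
  obtain ⟨w, hw, rfl⟩ := mem_span_singleton_smul hb
  refine ⟨s, hs, w, hw, s • x - w, mem_cf_col.2 ?_, by abel⟩
  rw [smul_sub, smul_comm, ← hni, smul_add, ← hsum,
    show a + (C f : MvPolynomial σ R) • w + z + s • i - (C f : MvPolynomial σ R) • w = a + z + s • i by abel]
  exact add_mem (add_mem (smul_le_cf _ _ ha) (cf_mono bot_le hz)) ((cf I).smul_mem s hi)

/-- the colon condition holds from some stage on -/
lemma exists_colon_stage (hA : Fl (⊥ : Ideal A) GA (ext (algebraMap C₀ A) W)) (I : Ideal C₀) (f : C₀)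
    (t : Stage σ C₀ A GA) (hQ : FlAt W (I ⊔ Ideal.span {f}) t) :
    ∃ r : Stage σ C₀ A GA, t.Le r ∧ ∀ x : ι → MvPolynomial σ r.D, (C (algebraMap C₀ r.D f) : MvPolynomial σ r.D) • x ∈
        ext (algebraMap C₀ r.D) W ⊔ cf (I.map (algebraMap C₀ r.D)) →
      ∃ s ∈ Submonoid.powers r.g, s • x ∈
        ext (algebraMap C₀ r.D) W ⊔ cf (col (I.map (algebraMap C₀ r.D)) (algebraMap C₀ r.D f)) := by
  classical
  haveI := stage_noetherian t
  let Z := ext (algebraMap C₀ t.D) W ⊔ cf (I.map (algebraMap C₀ t.D))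
  let X : Submodule (MvPolynomial σ t.D) (ι → MvPolynomial σ t.D) :=
    Z.comap (DistribSMul.toLinearMap (MvPolynomial σ t.D) _ (C (algebraMap C₀ t.D f) : MvPolynomial σ t.D))
  obtain ⟨gens, hgens⟩ : X.FG := IsNoetherian.noetherian X
  -- the condition for one element
  let Good : (ι → MvPolynomial σ t.D) → Subalgebra C₀ A → Prop := fun x D =>
    ∀ hD : t.D ≤ D, ∃ q : MvPolynomial σ D, MvPolynomial.map D.val.toRingHom q ∈ GA ∧
      q • kL (incl hD) x ∈ ext (algebraMap C₀ D) W ⊔ cf (col (I.map (algebraMap C₀ D)) (algebraMap C₀ D f))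
  have hgood : ∀ x ∈ gens, Ev (Good x) := by
    intro x hx
    have hxX : x ∈ X := hgens ▸ Submodule.subset_span hx
    obtain ⟨n, hn, i, hi, hni⟩ := Submodule.mem_sup.1 (show (C (algebraMap C₀ t.D f) : MvPolynomial σ t.D) • x ∈ Z from hxX)
    have hxA : (C (algebraMap C₀ A f) : MvPolynomial σ A) • kL t.D.val.toRingHom x ∈
        ext (algebraMap C₀ A) W ⊔ cf (I.map (algebraMap C₀ A)) := by
      have e : (C (algebraMap C₀ A f) : MvPolynomial σ A) • kL t.D.val.toRingHom x =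
          kL t.D.val.toRingHom n + kL t.D.val.toRingHom i := by
        rw [← map_add, hni, kL_C_smul]; rfl
      rw [e]
      refine add_mem (Submodule.mem_sup_left ?_) (Submodule.mem_sup_right ?_)
      · have := kL_mem_ext t.D.val.toRingHom hn
        rwa [ext_ext] at this
      · have := kL_mem_cf t.D.val.toRingHom hi
        rwa [Ideal.map_map] at this
    obtain ⟨sA, hsA, w, hw, e, he, hswe⟩ := colon_of_fl_bot hA _ _ hxA
    refine ((ev_poly sA).and ((ev_ext W hw).and (ev_cf I f he))).mono ?_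
    rintro D ⟨⟨q, rfl⟩, ⟨w', hw', rfl⟩, e', he', rfl⟩ hD
    refine ⟨q, hsA, ?_⟩
    have hinj : Function.Injective (kL (ι := ι) (σ := σ) D.val.toRingHom) := fun a b hab =>
      funext fun i => MvPolynomial.map_injective _ Subtype.val_injective (congrFun hab i)
    have e1 : q • kL (incl hD) x = w' + e' := by
      refine hinj ?_
      rw [LinearMap.map_smulₛₗ, map_add, ← hswe]
      congr 1
      funext i
      change MvPolynomial.map D.val.toRingHom (MvPolynomial.map (incl hD) (x i)) = _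
      rw [MvPolynomial.map_map]
      rfl
    rw [e1]
    exact add_mem (Submodule.mem_sup_left hw') (Submodule.mem_sup_right he')
  have hall : ∀ T : Finset (ι → MvPolynomial σ t.D), T ⊆ gens → Ev fun D => ∀ x ∈ T, Good x D := by
    intro T
    induction T using Finset.induction with
    | empty => exact fun _ => Ev.of_forall fun D x hx => absurd hx (Finset.notMem_empty x)
    | insert x T _ ih =>
      intro hT
      refine ((hgood x (hT (Finset.mem_insert_self x T))).and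
        (ih ((Finset.subset_insert x T).trans hT))).mono fun D h y hy => ?_
      rcases Finset.mem_insert.1 hy with rfl | hy
      · exact h.1
      · exact h.2 y hy
  obtain ⟨r₀, ⟨hle, hdvd⟩, hr₀⟩ := t.exists_ge (hall gens subset_rfl)
  choose q hq hqx using fun x : gens => hr₀ x.1 x.2 hle
  let r : Stage σ C₀ A GA := ⟨r₀.D, r₀.fg, r₀.g * ∏ x, q x, by
    rw [map_mul, map_prod]; exact mul_mem r₀.hg (prod_mem fun x _ => hq x)⟩
  refine ⟨r, ⟨hle, hdvd.trans (dvd_mul_right _ _)⟩, ?_⟩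
  let Z' := ext (algebraMap C₀ r.D) W ⊔ cf (col (I.map (algebraMap C₀ r.D)) (algebraMap C₀ r.D f))
  have hgr : ∀ y ∈ X, r.g • kL (incl hle) y ∈ Z' := by
    intro y hy
    rw [← hgens] at hy
    induction hy using Submodule.span_induction with
    | mem y hy =>
      obtain ⟨c, hc⟩ := (Finset.dvd_prod_of_mem q (Finset.mem_univ ⟨y, hy⟩)).trans
        (dvd_mul_left (∏ x, q x) r₀.g)
      rw [show r.g = c * q ⟨y, hy⟩ from hc.trans (mul_comm _ _), mul_smul]
      exact Z'.smul_mem c (hqx ⟨y, hy⟩)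
    | zero => simp
    | add a b _ _ ha hb => rw [map_add, smul_add]; exact add_mem ha hb
    | smul p a _ ha => rw [LinearMap.map_smulₛₗ, smul_comm]; exact Z'.smul_mem _ ha
  have hmap : (I ⊔ Ideal.span {f}).map (algebraMap C₀ t.D) =
      I.map (algebraMap C₀ t.D) ⊔ Ideal.span {algebraMap C₀ t.D f} := by
    rw [Ideal.map_sup, Ideal.map_span, Set.image_singleton]
  have hQ' : Fl (I.map (algebraMap C₀ t.D) ⊔ Ideal.span {algebraMap C₀ t.D f}) (Submonoid.powers t.g)
      (ext (algebraMap C₀ t.D) W) := hmap ▸ hQ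
  have hQ'' := hQ'.mono_monoid (G' := Submonoid.powers t.g) fun s hs => ⟨s, hs, dvd_rfl⟩
  intro x hx
  let G' : Submonoid (MvPolynomial σ r.D) :=
    { carrier := {s | ∃ s' ∈ Submonoid.powers r.g, s ∣ s'}
      one_mem' := ⟨1, one_mem _, dvd_rfl⟩
      mul_mem' := fun ⟨a, ha, ha'⟩ ⟨b, hb, hb'⟩ => ⟨a * b, mul_mem ha hb, mul_dvd_mul ha' hb'⟩ }
  have key := colon_ascend (incl hle) hQ'' (G' := G') ?_ ?_ x ?_
  · obtain ⟨s, ⟨s', hs', c, rfl⟩, hsx⟩ := key
    refine ⟨_, hs', ?_⟩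
    rw [Ideal.map_map, ext_ext, incl_comp] at hsx
    rw [mul_comm, mul_smul]
    exact Submodule.smul_mem _ c hsx
  · rintro _ ⟨n, rfl⟩
    refine ⟨r.g ^ n, ⟨n, rfl⟩, ?_⟩
    rw [map_pow]
    exact pow_dvd_pow_of_dvd (hdvd.trans (dvd_mul_right _ _)) n
  · intro y hy
    refine ⟨r.g, ⟨r.g, ⟨1, pow_one _⟩, dvd_rfl⟩, ?_⟩
    rw [Ideal.map_map, ext_ext, incl_comp]
    exact hgr y hy
  · rw [Ideal.map_map, ext_ext, incl_comp]
    exact hx

/-- **Flatness descends to a stage of finite type.** -/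
theorem exists_stage (hA : Fl (⊥ : Ideal A) GA (ext (algebraMap C₀ A) W)) (I : Ideal C₀) :
    ∀ s : Stage σ C₀ A GA, ∃ t : Stage σ C₀ A GA, s.Le t ∧ FlAt W I t := by
  induction I using WellFoundedGT.induction with
  | ind I ih =>
    intro s
    by_cases htop : I = ⊤
    · refine ⟨s, s.le_refl, ?_⟩
      rw [FlAt, htop, Ideal.map_top]
      exact Fl.top _ _
    suffices h : ∃ f : C₀, f ∉ I ∧ ∀ s : Stage σ C₀ A GA, ∃ t : Stage σ C₀ A GA, s.Le t ∧ ∀ r : Stage σ C₀ A GA,
        t.Le r → ∀ J : Ideal r.D, I.map (algebraMap C₀ r.D) ≤ J → ∀ w ∈ ext (algebraMap C₀ r.D) W, w ∈ cf J →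
          ∃ g ∈ Submonoid.powers r.g, ∃ n : ℕ, (g * C (algebraMap C₀ r.D f) ^ n) • w ∈
            J.map (C : r.D →+* MvPolynomial σ r.D) • ext (algebraMap C₀ r.D) W ⊔ cf (I.map (algebraMap C₀ r.D)) by
      obtain ⟨f, hf, htor⟩ := h
      have hlt : I < I ⊔ Ideal.span {f} :=
        lt_of_le_of_ne le_sup_left fun h => hf (h.symm.le (Ideal.mem_sup_right (Ideal.mem_span_singleton_self f)))
      obtain ⟨t₁, h₁, hQ⟩ := ih _ hlt s
      obtain ⟨t₂, h₂, htor⟩ := htor t₁
      obtain ⟨t₃, h₃, hcol⟩ := exists_colon_stage hA I f t₂ (hQ.mono h₂)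
      refine ⟨t₃, Stage.le_trans (Stage.le_trans h₁ h₂) h₃, ?_⟩
      haveI := stage_noetherian t₃
      have hQ3 := (hQ.mono h₂).mono h₃
      rw [FlAt, Ideal.map_sup, Ideal.map_span, Set.image_singleton] at hQ3
      exact fl_lift hQ3 (htor t₃ h₃) hcol
    by_cases hp : I.IsPrime
    · obtain ⟨fb, hfb, hfl⟩ := exists_fl_domain (ext (Ideal.Quotient.mk I) W)
      obtain ⟨f, rfl⟩ := Ideal.Quotient.mk_surjective fb
      refine ⟨f, fun h => hfb (Ideal.Quotient.eq_zero_iff_mem.2 h), fun s => ⟨s, s.le_refl, fun r _ J hJ w hw hwJ => ?_⟩⟩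
      have h1 := fl_of_surjective _ Ideal.Quotient.mk_surjective f hfl
      rw [Ideal.mk_ker] at h1
      obtain ⟨_, ⟨n, rfl⟩, h2⟩ := Fl.baseChange (algebraMap C₀ r.D) h1
        (G' := Submonoid.powers (C (algebraMap C₀ r.D f) : MvPolynomial σ r.D))
        (by rintro _ ⟨n, rfl⟩; exact ⟨n, by rw [map_pow, map_C]⟩) J hJ w hw hwJ
      exact ⟨1, one_mem _, n, by rw [one_mul]; exact h2⟩
    · obtain ⟨a, b, hab, ha, hb⟩ : ∃ a b, a * b ∈ I ∧ a ∉ I ∧ b ∉ I := by
        by_contra h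
        push Not at h
        exact hp ⟨htop, fun {x y} hxy => or_iff_not_imp_left.2 fun hx => h x y hxy hx⟩
      have hK : I < col I a :=
        lt_of_le_of_ne (le_col I a) fun h => hb (h.symm.le (mem_col.2 hab))
      refine ⟨a, ha, fun s => ?_⟩
      obtain ⟨t, hst, ht⟩ := ih _ hK s
      refine ⟨t, hst, fun r hr J hJ w hw hwJ => ?_⟩
      refine torsion_of_colon (ht.mono hr) (fun c hc => ?_) hJ hw hwJ
      have hle : (col I a).map (algebraMap C₀ r.D) ≤ col (I.map (algebraMap C₀ r.D)) (algebraMap C₀ r.D a) := by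
        rw [Ideal.map_le_iff_le_comap]
        intro c hc
        rw [Ideal.mem_comap, mem_col, ← map_mul]
        exact Ideal.mem_map_of_mem _ (mem_col.1 hc)
      exact mem_col.1 (hle hc)

/-- the stage statement for the zero ideal -/
theorem exists_fl_stage (hA : Fl (⊥ : Ideal A) GA (ext (algebraMap C₀ A) W)) :
    ∃ t : Stage σ C₀ A GA, Fl (⊥ : Ideal t.D) (Submonoid.powers t.g) (ext (algebraMap C₀ t.D) W) := by
  obtain ⟨t, -, ht⟩ := exists_stage hA ⊥ ⟨⊥, Subalgebra.fg_bot, 1, by rw [map_one]; exact one_mem GA⟩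
  rw [FlAt, Ideal.map_bot] at ht
  exact ⟨t, ht⟩

end Groth.Agent.FlatSpread
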