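import Groth.Agent.FlatSpread.Sys
import Mathlib.RingTheory.IsTensorProduct

/-!
Flatness of a base changed module and the criterion on its presentation.
-/

set_option autoImplicit false
universe u v

open MvPolynomial TensorProduct

namespace Groth.Agent.FlatSpread

variable {A₀ A' : Type u} [CommRing A₀] [CommRing A'] [Algebra A₀ A'] {σ ι : Type} [Finite ι]

/-- the comparison of quotients of free modules over polynomial rings -/
noncomputable def quotMap (W : Submodule (MvPolynomial σ A₀) (ι → MvPolynomial σ A₀)) :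
    ((ι → MvPolynomial σ A₀) ⧸ W) →ₗ[A₀] ((ι → MvPolynomial σ A') ⧸ ext (algebraMap A₀ A') W) :=
  (W.restrictScalars A₀).liftQ
    { toFun := fun x => Submodule.Quotient.mk (kL (algebraMap A₀ A') x)
      map_add' := fun a b => by rw [map_add, Submodule.Quotient.mk_add]
      map_smul' := fun r x => by
        rw [← C_smul, LinearMap.map_smulₛₗ, map_C, C_smul, Submodule.Quotient.mk_smul, RingHom.id_apply,
          algebraMap_smul] }
    fun _ hw => (Submodule.Quotient.mk_eq_zero _).2 (kL_mem_ext _ hw)

@[simp] lemma quotMap_mk (W : Submodule (MvPolynomial σ A₀) (ι → MvPolynomial σ A₀)) (x : ι → MvPolynomial σ A₀) :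
    quotMap (A' := A') W (Submodule.Quotient.mk x) = Submodule.Quotient.mk (kL (algebraMap A₀ A') x) := rfl

theorem isBaseChange_quotMap (W : Submodule (MvPolynomial σ A₀) (ι → MvPolynomial σ A₀)) :
    IsBaseChange A' (quotMap (A' := A') W) := by
  classical
  refine IsBaseChange.of_lift_unique _ ?_
  intro Q _ _ _ _ g
  letI : AddCommGroup Q := Module.addCommMonoidToAddCommGroup A'
  let G : (ι → MvPolynomial σ A') →ₗ[A'] Q :=
    (vb σ ι A').constr A' fun i => g (Submodule.Quotient.mk (vb σ ι A₀ i))
  have hG : ∀ x, G (kL (algebraMap A₀ A') x) = g (Submodule.Quotient.mk x) := by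
    intro x
    refine vec_induction (P := fun x => G (kL (algebraMap A₀ A') x) = g (Submodule.Quotient.mk x)) x
      (by rw [map_zero, map_zero, Submodule.Quotient.mk_zero, map_zero])
      (fun a b ha hb => by rw [map_add, map_add, ha, hb, Submodule.Quotient.mk_add, map_add]) fun i => ?_
    rw [← C_smul, kL_C_smul, kL_vb, C_smul, C_smul, map_smul, Module.Basis.constr_basis, algebraMap_smul,
      ← g.map_smul, ← Submodule.Quotient.mk_smul]
  have hker : (ext (algebraMap A₀ A') W).restrictScalars A' ≤ LinearMap.ker G := by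
    intro y hy
    have key : ∀ y ∈ ext (algebraMap A₀ A') W, ∀ p : MvPolynomial σ A', G (p • y) = 0 := by
      intro y hy
      induction hy using Submodule.span_induction with
      | mem y hy =>
        obtain ⟨w, hw, rfl⟩ := hy
        intro p
        induction p using MvPolynomial.induction_on' with
        | monomial α c =>
          have e1 : (monomial α c : MvPolynomial σ A') • kL (algebraMap A₀ A') w =
              c • kL (algebraMap A₀ A') ((monomial α 1 : MvPolynomial σ A₀) • w) := by
            rw [LinearMap.map_smulₛₗ, map_monomial, map_one, ← smul_assoc, smul_monomial, smul_eq_mul, mul_one]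
          rw [e1, map_smul, hG, (Submodule.Quotient.mk_eq_zero W).2 (W.smul_mem _ hw), map_zero, smul_zero]
        | add p q hp hq => rw [add_smul, map_add, hp, hq, add_zero]
      | zero => intro p; rw [smul_zero, map_zero]
      | add a b _ _ ha hb => intro p; rw [smul_add, map_add, ha, hb, add_zero]
      | smul c a _ ha => intro p; rw [← mul_smul]; exact ha _
    rw [LinearMap.mem_ker]
    have := key y hy 1
    rwa [one_smul] at this
  refine ⟨((ext (algebraMap A₀ A') W).restrictScalars A').liftQ G hker, ?_, fun g' hg' => ?_⟩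
  · ext x
    obtain ⟨x, rfl⟩ := Submodule.Quotient.mk_surjective W x
    exact hG x
  · refine LinearMap.ext fun y => ?_
    obtain ⟨y, rfl⟩ := Submodule.Quotient.mk_surjective _ y
    change g' (Submodule.Quotient.mk y) = G y
    refine vec_induction (P := fun y => g' (Submodule.Quotient.mk y) = G y) y
      (by rw [Submodule.Quotient.mk_zero, map_zero, map_zero])
      (fun a b ha hb => by rw [Submodule.Quotient.mk_add, map_add, ha, hb, map_add]) fun i => ?_
    rw [Submodule.Quotient.mk_smul, map_smul, map_smul]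
    congr 1
    have h1 := congrArg (fun t => t (Submodule.Quotient.mk (vb σ ι A₀ i))) hg'
    simp only [LinearMap.comp_apply, LinearMap.coe_restrictScalars, quotMap_mk, kL_vb] at h1
    rw [h1, Module.Basis.constr_basis]

/-- flatness of a quotient of a free module over a polynomial ring -/
theorem flat_quot_iff {R : Type u} [CommRing R] (W : Submodule (MvPolynomial σ R) (ι → MvPolynomial σ R)) :
    Module.Flat R ((ι → MvPolynomial σ R) ⧸ W) ↔ Fl (⊥ : Ideal R) (⊥ : Submonoid (MvPolynomial σ R)) W := by
  haveI := isLocalizedModule_id (X := (ι → MvPolynomial σ R) ⧸ W) (⊥ : Submonoid (MvPolynomial σ R))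
    fun x hx => Submonoid.mem_bot.1 hx
  let e := (IsLocalizedModule.iso (⊥ : Submonoid (MvPolynomial σ R))
    (LinearMap.id : ((ι → MvPolynomial σ R) ⧸ W) →ₗ[MvPolynomial σ R] _)).restrictScalars R
  constructor
  · intro h
    haveI : Module.Flat R (LocalizedModule (⊥ : Submonoid (MvPolynomial σ R)) ((ι → MvPolynomial σ R) ⧸ W)) :=
      Module.Flat.of_linearEquiv e
    exact fl_of_flat _ W
  · intro h
    haveI := flat_of_fl _ W h
    exact Module.Flat.of_linearEquiv e.symm

/-- flatness of a base changed module -/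
theorem flat_tensor_iff {M₀ : Type u} [AddCommGroup M₀] [Module A₀ M₀]
    (W : Submodule (MvPolynomial σ A₀) (ι → MvPolynomial σ A₀))
    (e : ((ι → MvPolynomial σ A₀) ⧸ W) ≃ₗ[A₀] M₀) :
    Module.Flat A' (A' ⊗[A₀] M₀) ↔
      Fl (⊥ : Ideal A') (⊥ : Submonoid (MvPolynomial σ A')) (ext (algebraMap A₀ A') W) := by
  rw [← flat_quot_iff]
  let i := (LinearEquiv.baseChange A₀ A' _ _ e).symm.trans (isBaseChange_quotMap (A' := A') W).equiv
  exact ⟨fun _ => Module.Flat.of_linearEquiv i.symm, fun _ => Module.Flat.of_linearEquiv i⟩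

/-- with the trivial monoid the witness can be removed -/
theorem Sys.exists_fl_bot {A : Type u} [CommRing A] {α : A₀ →+* A} (s : Sys.{u, v} α) [Finite σ]
    {W : Submodule (MvPolynomial σ A₀) (ι → MvPolynomial σ A₀)} (hW : W.FG)
    (hA : Fl (⊥ : Ideal A) (⊥ : Submonoid (MvPolynomial σ A)) (ext α W)) :
    ∃ k : s.J, Fl (⊥ : Ideal (s.G k)) (⊥ : Submonoid (MvPolynomial σ (s.G k))) (ext (s.a k) W) := by
  obtain ⟨j, p, hp, hfl⟩ := s.exists_fl hW hA
  obtain ⟨k, h, -, h2, h3⟩ := s.eq_vec (ι := Fin 1) (fun _ => p) (fun _ => 1) (funext fun _ => by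
    change MvPolynomial.map _ p = MvPolynomial.map _ 1
    rw [map_one]; exact Submonoid.mem_bot.1 hp)
  have hp1 : MvPolynomial.map h p = 1 := (congrFun h3 0).trans (show MvPolynomial.map h 1 = 1 from map_one _)
  refine ⟨k, ?_⟩
  have := Fl.baseChange h hfl (G' := (⊥ : Submonoid _)) (by
    rintro _ ⟨i, rfl⟩
    rw [Submonoid.mem_bot]
    exact (map_pow _ p i).trans (hp1.symm ▸ one_pow i))
  rw [Ideal.map_bot, ext_ext, h2] at this
  exact this

end Groth.Agent.FlatSpread
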