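import Groth.Agent.FlatSpread.Relation
import Mathlib.Algebra.MvPolynomial.Eval

/-!
Change of base ring for the relation-module criterion of flatness.
-/

set_option autoImplicit false
universe u v

open MvPolynomial

namespace Groth.Agent.FlatSpread

variable {σ : Type} {ι : Type} {R : Type u} [CommRing R]

/-- the monomial basis of the free module -/
noncomputable def vb (σ ι : Type) (R : Type u) [CommRing R] [Finite ι] :
    Module.Basis (Σ _ : ι, (σ →₀ ℕ)) R (ι → MvPolynomial σ R) :=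
  haveI := Fintype.ofFinite ι
  Pi.basis fun _ => MvPolynomial.basisMonomials σ R

lemma vb_apply [DecidableEq ι] [Finite ι] (i : ι) (α : σ →₀ ℕ) :
    vb σ ι R ⟨i, α⟩ = Pi.single i (monomial α 1) := by
  simp only [vb]
  exact (@Pi.basis_apply _ _ _ _ _ _ _ (Fintype.ofFinite ι) _ _ _).trans (by simp)

lemma vec_induction [Finite ι] {P : (ι → MvPolynomial σ R) → Prop}
    (x : ι → MvPolynomial σ R) (h0 : P 0) (hadd : ∀ y z, P y → P z → P (y + z))
    (hb : ∀ (i : Σ _ : ι, (σ →₀ ℕ)), P ((x i.1).coeff i.2 • vb σ ι R i)) : P x := by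
  classical
  haveI := Fintype.ofFinite ι
  have hv : ∀ (i : ι) (α : σ →₀ ℕ) (c : R), c • vb σ ι R ⟨i, α⟩ = Pi.single i (monomial α c) := by
    intro i α c
    rw [vb_apply, ← Pi.single_smul, smul_monomial, smul_eq_mul, mul_one]
  rw [← Finset.univ_sum_single x]
  refine Finset.sum_induction _ P hadd h0 fun i _ => ?_
  rw [(x i).as_sum]
  change P (LinearMap.single R (fun _ : ι => MvPolynomial σ R) i (∑ α ∈ (x i).support, monomial α ((x i).coeff α)))
  rw [map_sum]
  refine Finset.sum_induction _ P hadd h0 fun α _ => ?_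
  change P (Pi.single i (monomial α ((x i).coeff α)))
  rw [← hv]
  exact hb ⟨i, α⟩

lemma C_smul (c : R) (x : ι → MvPolynomial σ R) : (C c : MvPolynomial σ R) • x = c • x :=
  algebraMap_smul (MvPolynomial σ R) c x

/-- a linear map carries `cf J` into `J • W` when its values are in `W` -/
lemma linear_mem [Finite ι] {J : Ideal R} (h : (ι → MvPolynomial σ R) →ₗ[R] (ι → MvPolynomial σ R))
    {W : Submodule (MvPolynomial σ R) (ι → MvPolynomial σ R)} (hW : ∀ x, h x ∈ W)
    {x : ι → MvPolynomial σ R} (hx : x ∈ cf J) :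
    h x ∈ J.map (C : R →+* MvPolynomial σ R) • W := by
  refine vec_induction (P := fun y => h y ∈ J.map (C : R →+* MvPolynomial σ R) • W) x
    (by rw [map_zero]; exact zero_mem _) (fun y z hy hz => by rw [map_add]; exact add_mem hy hz) fun i => ?_
  rw [map_smul, ← C_smul]
  exact Submodule.smul_mem_smul (Ideal.mem_map_of_mem _ (mem_cf.1 hx i.1 i.2)) (hW _)

lemma linear_cf [Finite ι] {J : Ideal R} (h : (ι → MvPolynomial σ R) →ₗ[R] (ι → MvPolynomial σ R))
    {x : ι → MvPolynomial σ R} (hx : x ∈ cf J) : h x ∈ cf J :=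
  smul_le_cf J ⊤ (linear_mem (W := ⊤) h (fun _ => Submodule.mem_top) hx)

/-- values of linear maps into `W` at a given vector -/
noncomputable def valW (W : Submodule (MvPolynomial σ R) (ι → MvPolynomial σ R)) (w : ι → MvPolynomial σ R) :
    Submodule (MvPolynomial σ R) (ι → MvPolynomial σ R) where
  carrier := {y | ∃ h : (ι → MvPolynomial σ R) →ₗ[R] (ι → MvPolynomial σ R), (∀ x, h x ∈ W) ∧ h w = y}
  zero_mem' := ⟨0, fun _ => W.zero_mem, rfl⟩
  add_mem' := by
    rintro y z ⟨h, hh, rfl⟩ ⟨k, hk, rfl⟩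
    exact ⟨h + k, fun x => W.add_mem (hh x) (hk x), rfl⟩
  smul_mem' := by
    rintro p y ⟨h, hh, rfl⟩
    exact ⟨(DistribSMul.toLinearMap R _ p).comp h, fun x => W.smul_mem p (hh x), rfl⟩

lemma smul_le_valW {W : Submodule (MvPolynomial σ R) (ι → MvPolynomial σ R)} (w : ι → MvPolynomial σ R) :
    (Ideal.span (Set.range fun p : ι × (σ →₀ ℕ) => (w p.1).coeff p.2)).map (C : R →+* MvPolynomial σ R) • W ≤
      valW W w := by
  rw [Ideal.map_span, ← Submodule.span_eq W, Submodule.span_smul_span, Submodule.span_le]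
  rintro _ ⟨_, ⟨_, ⟨⟨i, α⟩, rfl⟩, rfl⟩, d, hd, rfl⟩
  refine ⟨((MvPolynomial.lcoeff R α).comp (LinearMap.proj i)).smulRight d, fun x => ?_, ?_⟩
  · simp only [LinearMap.smulRight_apply]
    rw [← C_smul, Submodule.span_eq]
    exact W.smul_mem _ hd
  · simp only [LinearMap.smulRight_apply, LinearMap.comp_apply, LinearMap.proj_apply, MvPolynomial.lcoeff_apply]
    exact (C_smul _ d).symm

/-- a linear map into `W` which is multiplication by an element of `G` on finitely many given relations -/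
theorem exists_retraction [Finite ι] {K : Ideal R} {G : Submonoid (MvPolynomial σ R)}
    {W : Submodule (MvPolynomial σ R) (ι → MvPolynomial σ R)} (hQ : Fl K G W) :
    ∀ (r : ℕ) (T : Fin r → ι → MvPolynomial σ R), (∀ k, T k ∈ W) →
      ∃ s ∈ G, ∃ h : (ι → MvPolynomial σ R) →ₗ[R] (ι → MvPolynomial σ R),
        (∀ x, h x ∈ W) ∧ ∀ k, h (T k) - s • T k ∈ cf K := by
  intro r
  induction r with
  | zero => exact fun T _ => ⟨1, one_mem G, 0, fun _ => W.zero_mem, fun k => k.elim0⟩
  | succ r ih =>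
    intro T hT
    let w := T 0
    let J := Ideal.span (Set.range fun p : ι × (σ →₀ ℕ) => (w p.1).coeff p.2)
    obtain ⟨s₁, hs₁, hsw⟩ := hQ (K ⊔ J) le_sup_left w (hT 0)
      (mem_cf.2 fun i α => Ideal.mem_sup_right (Ideal.subset_span ⟨(i, α), rfl⟩))
    rw [Ideal.map_sup, Submodule.sup_smul, Submodule.mem_sup] at hsw
    obtain ⟨ab, hab, c, hc, hsum⟩ := hsw
    obtain ⟨a, ha, b, hb, rfl⟩ := Submodule.mem_sup.1 hab
    obtain ⟨h₁, hh₁, hb₁⟩ := smul_le_valW w hb
    let ψ : (ι → MvPolynomial σ R) →ₗ[R] (ι → MvPolynomial σ R) := DistribSMul.toLinearMap R _ s₁ - h₁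
    have hψw : ψ w ∈ cf K := by
      change s₁ • w - h₁ w ∈ cf K
      rw [hb₁, show s₁ • w - b = a + c by rw [← hsum]; abel]
      exact add_mem (smul_le_cf K W ha) hc
    obtain ⟨s₂, hs₂, h₂, hh₂, hk₂⟩ := ih (fun k => ψ (T k.succ))
      (fun k => W.sub_mem (W.smul_mem s₁ (hT _)) (hh₁ _))
    refine ⟨s₂ * s₁, mul_mem hs₂ hs₁, h₂.comp ψ + (DistribSMul.toLinearMap R _ s₂).comp h₁,
      fun x => W.add_mem (hh₂ _) (W.smul_mem s₂ (hh₁ x)), fun k => ?_⟩
    have e : ∀ x, (h₂.comp ψ + (DistribSMul.toLinearMap R _ s₂).comp h₁ :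
        (ι → MvPolynomial σ R) →ₗ[R] (ι → MvPolynomial σ R)) x - (s₂ * s₁) • x = h₂ (ψ x) - s₂ • ψ x := by
      intro x
      change h₂ (ψ x) + s₂ • h₁ x - (s₂ * s₁) • x = h₂ (ψ x) - s₂ • (s₁ • x - h₁ x)
      rw [smul_sub, mul_smul]; abel
    rw [e]
    induction k using Fin.cases with
    | zero => exact sub_mem (linear_cf h₂ hψw) ((cf K).smul_mem _ hψw)
    | succ k => exact hk₂ k

variable {R' : Type v} [CommRing R'] (φ : R →+* R')

/-- coefficientwise image -/
noncomputable def kL : (ι → MvPolynomial σ R) →ₛₗ[(MvPolynomial.map φ : MvPolynomial σ R →+* MvPolynomial σ R')]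
    (ι → MvPolynomial σ R') where
  toFun x i := MvPolynomial.map φ (x i)
  map_add' x y := funext fun i => map_add _ _ _
  map_smul' p x := funext fun i => map_mul _ _ _

lemma kL_mem_cf {J : Ideal R} {x : ι → MvPolynomial σ R} (hx : x ∈ cf J) : kL φ x ∈ cf (J.map φ) :=
  mem_cf.2 fun i α => by
    change (MvPolynomial.map φ (x i)).coeff α ∈ _
    rw [coeff_map]
    exact Ideal.mem_map_of_mem φ (mem_cf.1 hx i α)

lemma kL_C_smul (c : R) (x : ι → MvPolynomial σ R) :
    kL φ ((C c : MvPolynomial σ R) • x) = (C (φ c) : MvPolynomial σ R') • kL φ x := by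
  rw [LinearMap.map_smulₛₗ, map_C]

/-- relation module after base change -/
noncomputable def ext (W : Submodule (MvPolynomial σ R) (ι → MvPolynomial σ R)) :
    Submodule (MvPolynomial σ R') (ι → MvPolynomial σ R') :=
  Submodule.span _ (kL φ '' (W : Set (ι → MvPolynomial σ R)))

lemma kL_mem_ext {W : Submodule (MvPolynomial σ R) (ι → MvPolynomial σ R)} {w : ι → MvPolynomial σ R} (hw : w ∈ W) :
    kL φ w ∈ ext φ W :=
  Submodule.subset_span ⟨w, hw, rfl⟩

lemma ext_le_span {W : Submodule (MvPolynomial σ R) (ι → MvPolynomial σ R)} {n : ι → MvPolynomial σ R'}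
    (hn : n ∈ ext φ W) : n ∈ Submodule.span R' (kL φ '' (W : Set (ι → MvPolynomial σ R))) := by
  induction hn using Submodule.span_induction with
  | mem x hx => exact Submodule.subset_span hx
  | zero => exact zero_mem _
  | add x y _ _ hx hy => exact add_mem hx hy
  | smul p x _ hx =>
    induction p using MvPolynomial.induction_on' with
    | monomial α c =>
      have hsub : ∀ y ∈ Submodule.span R' (kL φ '' (W : Set (ι → MvPolynomial σ R))), monomial α (1 : R') • y ∈ Submodule.span R' (kL φ '' (W : Set (ι → MvPolynomial σ R))) := by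
        intro y hy
        induction hy using Submodule.span_induction with
        | mem y hy =>
          obtain ⟨w, hw, rfl⟩ := hy
          refine Submodule.subset_span ⟨monomial α (1 : R) • w, W.smul_mem _ hw, ?_⟩
          rw [LinearMap.map_smulₛₗ, map_monomial, map_one]
        | zero => rw [smul_zero]; exact zero_mem _
        | add a b _ _ ha hb => rw [smul_add]; exact add_mem ha hb
        | smul c a _ ha => rw [smul_comm]; exact Submodule.smul_mem _ c ha
      rw [show monomial α c = c • monomial α (1 : R') by rw [smul_monomial, smul_eq_mul, mul_one], smul_assoc]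
      exact Submodule.smul_mem _ c (hsub x hx)
    | add p q hp hq => rw [add_smul]; exact add_mem hp hq

/-- base change of a linear endomorphism of the free module -/
noncomputable def bcH [Finite ι] (h : (ι → MvPolynomial σ R) →ₗ[R] (ι → MvPolynomial σ R)) :
    (ι → MvPolynomial σ R') →ₗ[R'] (ι → MvPolynomial σ R') :=
  (vb σ ι R').constr R' fun i => kL φ (h (vb σ ι R i))

lemma kL_vb [Finite ι] (i : Σ _ : ι, (σ →₀ ℕ)) : kL φ (vb σ ι R i) = vb σ ι R' i := by
  classical
  funext j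
  obtain ⟨i, α⟩ := i
  change MvPolynomial.map φ (vb σ ι R ⟨i, α⟩ j) = _
  simp only [vb_apply, Pi.single_apply]
  split_ifs <;> simp

lemma bcH_kL [Finite ι] (h : (ι → MvPolynomial σ R) →ₗ[R] (ι → MvPolynomial σ R)) (x : ι → MvPolynomial σ R) :
    bcH φ h (kL φ x) = kL φ (h x) := by
  refine vec_induction (P := fun y => bcH φ h (kL φ y) = kL φ (h y)) x (by simp)
    (fun y z hy hz => by simp only [map_add, hy, hz]) fun i => ?_
  rw [map_smul h, ← C_smul, ← C_smul, kL_C_smul, kL_C_smul, C_smul, C_smul, map_smul (bcH φ h), kL_vb, bcH,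
    Module.Basis.constr_basis]

lemma bcH_mem [Finite ι] {W : Submodule (MvPolynomial σ R) (ι → MvPolynomial σ R)}
    (h : (ι → MvPolynomial σ R) →ₗ[R] (ι → MvPolynomial σ R)) (hW : ∀ x, h x ∈ W) (x : ι → MvPolynomial σ R') :
    bcH φ h x ∈ ext φ W := by
  refine vec_induction (P := fun y => bcH φ h y ∈ ext φ W) x (by simp)
    (fun y z hy hz => by rw [map_add]; exact add_mem hy hz) fun i => ?_
  rw [map_smul, ← C_smul, bcH, Module.Basis.constr_basis]
  exact Submodule.smul_mem _ _ (kL_mem_ext φ (hW _))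

/-- relations with coefficients in `J'` after base change -/
theorem exists_decomp [Finite ι] {K : Ideal R} {G : Submonoid (MvPolynomial σ R)}
    {W : Submodule (MvPolynomial σ R) (ι → MvPolynomial σ R)} (hQ : Fl K G W) {J' : Ideal R'}
    {n : ι → MvPolynomial σ R'} (hn : n ∈ ext φ W) (hn' : n ∈ cf J') :
    ∃ s ∈ G, MvPolynomial.map φ s • n ∈ J'.map (C : R' →+* MvPolynomial σ R') • ext φ W ⊔
      Submodule.span (MvPolynomial σ R') (kL φ '' ((W ⊓ cf K : Submodule (MvPolynomial σ R) (ι → MvPolynomial σ R)) :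
        Set (ι → MvPolynomial σ R))) := by
  obtain ⟨r, c, T, rfl⟩ := Submodule.mem_span_set'.1 (ext_le_span φ hn)
  choose w hw hwT using fun k => (T k).2
  obtain ⟨s, hs, h, hh, hk⟩ := exists_retraction hQ r w hw
  refine ⟨s, hs, ?_⟩
  have hH := linear_mem (W := ext φ W) (bcH φ h) (bcH_mem φ h hh) hn'
  have e : MvPolynomial.map φ s • ∑ k, c k • (T k : ι → MvPolynomial σ R') =
      bcH φ h (∑ k, c k • (T k : ι → MvPolynomial σ R')) - ∑ k, c k • kL φ (h (w k) - s • w k) := by
    rw [map_sum, Finset.smul_sum, ← Finset.sum_sub_distrib]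
    refine Finset.sum_congr rfl fun k _ => ?_
    rw [map_smul, ← hwT k, bcH_kL, map_sub, LinearMap.map_smulₛₗ, smul_sub, smul_comm]
    abel
  rw [e]
  refine sub_mem (Submodule.mem_sup_left hH) (Submodule.mem_sup_right (Submodule.sum_mem _ fun k _ => ?_))
  rw [← C_smul]
  exact Submodule.smul_mem _ _ (Submodule.subset_span ⟨_, ⟨W.sub_mem (hh _) (W.smul_mem s (hw k)), hk k⟩, rfl⟩)

lemma span_kL_le {W : Submodule (MvPolynomial σ R) (ι → MvPolynomial σ R)} {K : Ideal R} :
    Submodule.span (MvPolynomial σ R') (kL φ '' ((W ⊓ cf K : Submodule (MvPolynomial σ R) (ι → MvPolynomial σ R)) :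
        Set (ι → MvPolynomial σ R))) ≤ ext φ W ⊓ cf (K.map φ) :=
  Submodule.span_le.2 fun _ ⟨w, hw, e⟩ => e ▸ ⟨kL_mem_ext φ hw.1, kL_mem_cf φ hw.2⟩

/-- the criterion is stable under base change -/
theorem Fl.baseChange [Finite ι] {I : Ideal R} {G : Submonoid (MvPolynomial σ R)}
    {G' : Submonoid (MvPolynomial σ R')} {W : Submodule (MvPolynomial σ R) (ι → MvPolynomial σ R)} (hQ : Fl I G W)
    (hG : ∀ s ∈ G, MvPolynomial.map φ s ∈ G') : Fl (I.map φ) G' (ext φ W) := by
  intro J hJ n hn hn'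
  obtain ⟨s, hs, h⟩ := exists_decomp φ hQ hn hn'
  exact ⟨_, hG s hs, sup_le le_sup_left (le_sup_of_le_right ((span_kL_le φ).trans inf_le_right)) h⟩

/-- `f`-colon elements of the base generate those after base change -/
theorem colon_ascend [Finite ι] {I : Ideal R} {f : R} {G : Submonoid (MvPolynomial σ R)}
    {G' : Submonoid (MvPolynomial σ R')} {W : Submodule (MvPolynomial σ R) (ι → MvPolynomial σ R)}
    (hQ : Fl (I ⊔ Ideal.span {f}) G W) (hG : ∀ s ∈ G, MvPolynomial.map φ s ∈ G')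
    (hx : ∀ x, (C f : MvPolynomial σ R) • x ∈ W ⊔ cf I →
      ∃ s ∈ G', s • kL φ x ∈ ext φ W ⊔ cf (col (I.map φ) (φ f))) :
    ∀ x' : ι → MvPolynomial σ R', (C (φ f) : MvPolynomial σ R') • x' ∈ ext φ W ⊔ cf (I.map φ) →
      ∃ s ∈ G', s • x' ∈ ext φ W ⊔ cf (col (I.map φ) (φ f)) := by
  intro x' hx'
  obtain ⟨n, hn, i, hi, hni⟩ := Submodule.mem_sup.1 hx'
  have hmap : (I ⊔ Ideal.span {f}).map φ = I.map φ ⊔ Ideal.span {φ f} := by
    rw [Ideal.map_sup, Ideal.map_span, Set.image_singleton]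
  have hnK : n ∈ cf ((I ⊔ Ideal.span {f}).map φ) := by
    rw [show n = (C (φ f) : MvPolynomial σ R') • x' - i by rw [← hni]; abel]
    exact sub_mem (C_smul_mem_cf (Ideal.mem_map_of_mem φ (Ideal.mem_sup_right (Ideal.mem_span_singleton_self f))) x')
      (cf_mono (Ideal.map_mono le_sup_left) hi)
  obtain ⟨s, hs, hsn⟩ := exists_decomp φ hQ hn hnK
  obtain ⟨a, ha, b, hb, hab⟩ := Submodule.mem_sup.1 hsn
  rw [hmap, Ideal.map_sup, Submodule.sup_smul, Submodule.mem_sup] at ha
  obtain ⟨a₁, ha₁, a₂, ha₂, rfl⟩ := ha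
  obtain ⟨w'', hw'', rfl⟩ := mem_span_singleton_smul ha₂
  let Z := ext φ W ⊔ cf (col (I.map φ) (φ f))
  have hbu : ∃ u : ι → MvPolynomial σ R', (∃ t ∈ G', t • u ∈ Z) ∧
      b - (C (φ f) : MvPolynomial σ R') • u ∈ cf (I.map φ) := by
    clear hab
    induction hb using Submodule.span_induction with
    | mem y hy =>
      obtain ⟨w, ⟨hw, hwK⟩, rfl⟩ := hy
      rw [SetLike.mem_coe, cf_sup, Submodule.mem_sup] at hwK
      obtain ⟨iw, hiw, c', hc', rfl⟩ := hwK
      obtain ⟨c, rfl⟩ := mem_cf_span_singleton hc'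
      refine ⟨kL φ c, hx c ?_, ?_⟩
      · rw [show (C f : MvPolynomial σ R) • c = (iw + (C f : MvPolynomial σ R) • c) - iw by abel]
        exact sub_mem (Submodule.mem_sup_left hw) (Submodule.mem_sup_right hiw)
      · rw [map_add, kL_C_smul, add_sub_cancel_right]
        exact kL_mem_cf φ hiw
    | zero => exact ⟨0, ⟨1, one_mem G', by simp⟩, by simp⟩
    | add y z _ _ hy hz =>
      obtain ⟨u, ⟨t, ht, hu⟩, hy⟩ := hy
      obtain ⟨u', ⟨t', ht', hu'⟩, hz⟩ := hz
      refine ⟨u + u', ⟨t * t', mul_mem ht ht', ?_⟩, ?_⟩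
      · rw [smul_add, mul_smul t t' u', mul_comm, mul_smul]
        exact add_mem (Z.smul_mem _ hu) (Z.smul_mem _ hu')
      · rw [smul_add, add_sub_add_comm]
        exact add_mem hy hz
    | smul p y _ hy =>
      obtain ⟨u, ⟨t, ht, hu⟩, hy⟩ := hy
      refine ⟨p • u, ⟨t, ht, by rw [smul_comm]; exact Z.smul_mem _ hu⟩, ?_⟩
      rw [smul_comm, ← smul_sub]
      exact Submodule.smul_mem _ p hy
  obtain ⟨u, ⟨t, ht, hu⟩, hbu⟩ := hbu
  let e := MvPolynomial.map φ s • x' - w'' - u
  have he : e ∈ cf (col (I.map φ) (φ f)) := by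
    refine mem_cf_col.2 ?_
    have e1 : (C (φ f) : MvPolynomial σ R') • e =
        a₁ + (b - (C (φ f) : MvPolynomial σ R') • u) + MvPolynomial.map φ s • i := by
      simp only [e, smul_sub]
      rw [smul_comm _ (MvPolynomial.map φ s) x', ← hni, smul_add, ← hab]
      abel
    rw [e1]
    exact add_mem (add_mem (smul_le_cf _ _ ha₁) hbu) (Submodule.smul_mem _ _ hi)
  refine ⟨t * MvPolynomial.map φ s, mul_mem ht (hG s hs), ?_⟩
  have e2 : (t * MvPolynomial.map φ s) • x' = t • w'' + (t • u + t • e) := by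
    simp only [e, smul_sub, mul_smul]; abel
  rw [e2]
  exact add_mem (Submodule.mem_sup_left (Submodule.smul_mem _ t hw''))
    (add_mem hu (Submodule.mem_sup_right (Submodule.smul_mem _ t he)))

/-- the torsion condition from flatness modulo an ideal killed by `f` modulo `I` -/
lemma torsion_of_colon [Finite ι] {I K : Ideal R} {f : R} {G : Submonoid (MvPolynomial σ R)}
    {W : Submodule (MvPolynomial σ R) (ι → MvPolynomial σ R)} (hK : Fl K G W) (hfK : ∀ a ∈ K, f * a ∈ I)
    {J : Ideal R} (hIJ : I ≤ J) {w : ι → MvPolynomial σ R} (hw : w ∈ W) (hwJ : w ∈ cf J) :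
    ∃ s ∈ G, ∃ n : ℕ, (s * C f ^ n) • w ∈ J.map (C : R →+* MvPolynomial σ R) • W ⊔ cf I := by
  obtain ⟨s, hs, h⟩ := hK (J ⊔ K) le_sup_right w hw (cf_mono le_sup_left hwJ)
  obtain ⟨a, ha, b, hb, hab⟩ := Submodule.mem_sup.1 h
  refine ⟨s, hs, 1, ?_⟩
  rw [pow_one, mul_comm, mul_smul, ← hab, smul_add]
  refine add_mem (Submodule.mem_sup_left (C_smul_map_smul (fun c hc => ?_) ha))
    (Submodule.mem_sup_right (mem_cf_col.1 (cf_mono (fun c hc => mem_col.2 (hfK c hc)) hb)))
  obtain ⟨j, hj, k, hk, rfl⟩ := Submodule.mem_sup.1 hc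
  rw [mul_add]
  exact add_mem (J.mul_mem_left f hj) (hIJ (hfK k hk))

end Groth.Agent.FlatSpread
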