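import Mathlib.RingTheory.Polynomial.Basic
import Mathlib.RingTheory.MvPolynomial.Basic
import Mathlib.RingTheory.Noetherian.Basic
import Mathlib.LinearAlgebra.StdBasis
import Mathlib.Algebra.Module.Submodule.Pointwise

/-!
Flatness of a finitely presented module over a polynomial algebra, expressed inside a free module.

`Fl I G W` says that the localisation at `G` of `(ι → R[σ]) ⧸ W` is flat modulo `I`:
the relation module meets `J` times the free module in `J` times itself, for every ideal `J ≥ I`.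
-/

set_option autoImplicit false
universe u

open MvPolynomial

namespace Groth.Agent.FlatSpread

variable {σ : Type} {ι : Type} {R : Type u} [CommRing R]

/-- vectors with all coefficients in `J` -/
noncomputable def cf (J : Ideal R) : Submodule (MvPolynomial σ R) (ι → MvPolynomial σ R) :=
  Submodule.pi Set.univ fun _ => J.map (C : R →+* MvPolynomial σ R)

lemma mem_cf {J : Ideal R} {x : ι → MvPolynomial σ R} : x ∈ cf J ↔ ∀ i α, (x i).coeff α ∈ J := by
  simp [cf, Submodule.mem_pi, MvPolynomial.mem_map_C_iff]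

lemma cf_mono {I J : Ideal R} (h : I ≤ J) : (cf I : Submodule (MvPolynomial σ R) (ι → MvPolynomial σ R)) ≤ cf J :=
  fun _ hx => mem_cf.2 fun i α => h (mem_cf.1 hx i α)

/-- the colon ideal -/
noncomputable def col (I : Ideal R) (f : R) : Ideal R := Submodule.comap (LinearMap.mulLeft R f) I

lemma mem_col {I : Ideal R} {f a : R} : a ∈ col I f ↔ f * a ∈ I := Iff.rfl

lemma le_col (I : Ideal R) (f : R) : I ≤ col I f := fun _ ha => mem_col.2 (I.mul_mem_left f ha)

lemma mem_cf_col {I : Ideal R} {f : R} {x : ι → MvPolynomial σ R} : x ∈ cf (col I f) ↔ (C f : MvPolynomial σ R) • x ∈ cf I := by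
  simp [mem_cf, mem_col, coeff_C_mul]

lemma smul_le_cf (J : Ideal R) (W : Submodule (MvPolynomial σ R) (ι → MvPolynomial σ R)) :
    J.map (C : R →+* MvPolynomial σ R) • W ≤ cf J := by
  rw [Submodule.smul_le]
  intro r hr x _
  simp only [cf, Submodule.mem_pi]
  intro i _
  exact Ideal.mul_mem_right _ _ hr

lemma C_smul_mem_cf {J : Ideal R} {c : R} (hc : c ∈ J) (x : ι → MvPolynomial σ R) : (C c : MvPolynomial σ R) • x ∈ cf J :=
  smul_le_cf J ⊤ (Submodule.smul_mem_smul (Ideal.mem_map_of_mem _ hc) trivial)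

lemma cf_eq [Finite ι] (J : Ideal R) : (cf J : Submodule (MvPolynomial σ R) (ι → MvPolynomial σ R)) =
    J.map (C : R →+* MvPolynomial σ R) • ⊤ := by
  classical
  haveI := Fintype.ofFinite ι
  refine le_antisymm (fun x hx => ?_) (smul_le_cf J ⊤)
  rw [← Finset.univ_sum_single x]
  refine Submodule.sum_mem _ fun i _ => ?_
  have h : Pi.single i (x i) = x i • (Pi.single i 1 : ι → MvPolynomial σ R) := by
    rw [← Pi.single_smul]; simp
  rw [h]
  refine Submodule.smul_mem_smul ?_ trivial
  exact MvPolynomial.mem_map_C_iff.2 fun α => mem_cf.1 hx i α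

lemma cf_sup [Finite ι] (I J : Ideal R) :
    (cf (I ⊔ J) : Submodule (MvPolynomial σ R) (ι → MvPolynomial σ R)) = cf I ⊔ cf J := by
  rw [cf_eq, cf_eq, cf_eq, Ideal.map_sup, Submodule.sup_smul]

lemma mem_span_singleton_smul {f : R} {W : Submodule (MvPolynomial σ R) (ι → MvPolynomial σ R)}
    {x : ι → MvPolynomial σ R} (hx : x ∈ (Ideal.span {f}).map (C : R →+* MvPolynomial σ R) • W) :
    ∃ d ∈ W, x = (C f : MvPolynomial σ R) • d := by
  rw [Ideal.map_span, Set.image_singleton, Submodule.ideal_span_singleton_smul] at hx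
  obtain ⟨d, hd, rfl⟩ := hx
  exact ⟨d, hd, rfl⟩

lemma mem_cf_span_singleton [Finite ι] {f : R} {x : ι → MvPolynomial σ R} (hx : x ∈ cf (Ideal.span {f})) :
    ∃ d, x = (C f : MvPolynomial σ R) • d := by
  rw [cf_eq] at hx
  obtain ⟨d, -, h⟩ := mem_span_singleton_smul hx
  exact ⟨d, h⟩

lemma C_smul_map_smul {f : R} {J K : Ideal R} (hJK : ∀ a ∈ K, f * a ∈ J)
    {W : Submodule (MvPolynomial σ R) (ι → MvPolynomial σ R)} {x : ι → MvPolynomial σ R}
    (hx : x ∈ K.map (C : R →+* MvPolynomial σ R) • W) : (C f : MvPolynomial σ R) • x ∈ J.map (C : R →+* MvPolynomial σ R) • W := by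
  induction hx using Submodule.smul_induction_on' with
  | smul r hr w hw =>
    rw [smul_smul]
    refine Submodule.smul_mem_smul (MvPolynomial.mem_map_C_iff.2 fun α => ?_) hw
    rw [coeff_C_mul]
    exact hJK _ (MvPolynomial.mem_map_C_iff.1 hr α)
  | add x _ y _ hx hy => rw [smul_add]; exact add_mem hx hy

/-- flatness of the quotient by `W`, localised at `G`, modulo `I` -/
def Fl (I : Ideal R) (G : Submonoid (MvPolynomial σ R)) (W : Submodule (MvPolynomial σ R) (ι → MvPolynomial σ R)) : Prop :=
  ∀ J : Ideal R, I ≤ J → ∀ w ∈ W, w ∈ cf J →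
    ∃ s ∈ G, s • w ∈ J.map (C : R →+* MvPolynomial σ R) • W ⊔ cf I

lemma Fl.mono_monoid {I : Ideal R} {G G' : Submonoid (MvPolynomial σ R)}
    {W : Submodule (MvPolynomial σ R) (ι → MvPolynomial σ R)} (h : Fl I G W) (hG : ∀ s ∈ G, ∃ s' ∈ G', s ∣ s') :
    Fl I G' W := by
  intro J hJ w hw hw'
  obtain ⟨s, hs, hsw⟩ := h J hJ w hw hw'
  obtain ⟨s', hs', c, rfl⟩ := hG s hs
  refine ⟨_, hs', ?_⟩
  rw [mul_comm, mul_smul]
  exact Submodule.smul_mem _ c hsw

/-- lifting flatness from `I + (f)` to `I` -/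
theorem fl_lift [IsNoetherianRing R] [Finite σ] [Finite ι] {I : Ideal R} {f : R} {G : Submonoid (MvPolynomial σ R)}
    {W : Submodule (MvPolynomial σ R) (ι → MvPolynomial σ R)} (hQ : Fl (I ⊔ Ideal.span {f}) G W)
    (htor : ∀ J : Ideal R, I ≤ J → ∀ w ∈ W, w ∈ cf J →
      ∃ s ∈ G, ∃ n : ℕ, (s * C f ^ n) • w ∈ J.map (C : R →+* MvPolynomial σ R) • W ⊔ cf I)
    (hcol : ∀ x : ι → MvPolynomial σ R, (C f : MvPolynomial σ R) • x ∈ W ⊔ cf I → ∃ s ∈ G, s • x ∈ W ⊔ cf (col I f)) :
    Fl I G W := by
  intro J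
  induction J using WellFoundedGT.induction with
  | ind J ih =>
    intro hIJ w hw hwJ
    let X := J.map (C : R →+* MvPolynomial σ R) • W ⊔ cf I
    by_cases hfJ : f ∈ J
    · obtain ⟨s, hs, hsw⟩ := hQ J (sup_le hIJ ((Ideal.span_singleton_le_iff_mem J).2 hfJ)) w hw hwJ
      rw [cf_sup, Submodule.mem_sup] at hsw
      obtain ⟨a, ha, bc, hbc, hsum⟩ := hsw
      obtain ⟨b, hb, c', hc', rfl⟩ := Submodule.mem_sup.1 hbc
      obtain ⟨c, rfl⟩ := mem_cf_span_singleton hc'
      have hc : (C f : MvPolynomial σ R) • c ∈ W ⊔ cf I := by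
        have : (C f : MvPolynomial σ R) • c = (s • w - a) - b := by rw [← hsum]; abel
        rw [this]
        exact sub_mem (Submodule.mem_sup_left (sub_mem (W.smul_mem s hw) (Submodule.smul_le_right ha)))
          (Submodule.mem_sup_right hb)
      obtain ⟨t, ht, htc⟩ := hcol c hc
      obtain ⟨d, hd, e, he, hde⟩ := Submodule.mem_sup.1 htc
      refine ⟨t * s, mul_mem ht hs, ?_⟩
      have h1 : (t * s) • w = t • a + (t • b + ((C f : MvPolynomial σ R) • d + (C f : MvPolynomial σ R) • e)) := by
        rw [mul_smul, ← hsum, ← smul_add (C f) d e, hde, smul_comm (C f) t c, smul_add, smul_add]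
      rw [h1]
      refine add_mem (Submodule.mem_sup_left (Submodule.smul_mem _ t ha))
        (add_mem (Submodule.mem_sup_right (Submodule.smul_mem _ t hb))
          (add_mem (Submodule.mem_sup_left (Submodule.smul_mem_smul (Ideal.mem_map_of_mem _ hfJ) hd))
            (Submodule.mem_sup_right (mem_cf_col.1 he))))
    · have hlt : J < J ⊔ Ideal.span {f} :=
        lt_of_le_of_ne le_sup_left fun h => hfJ (h.symm.le (Ideal.mem_sup_right (Ideal.mem_span_singleton_self f)))
      -- one step of division by `f`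
      have step : ∀ w ∈ W, w ∈ cf J → ∃ s ∈ G, ∃ d ∈ W, d ∈ cf (col J f) ∧ s • w - (C f : MvPolynomial σ R) • d ∈ X := by
        intro w hw hwJ
        obtain ⟨s, hs, hsw⟩ := ih _ hlt (hIJ.trans le_sup_left) w hw (cf_mono le_sup_left hwJ)
        rw [Ideal.map_sup, Submodule.sup_smul, Submodule.mem_sup] at hsw
        obtain ⟨ad, had, b, hb, hsum⟩ := hsw
        obtain ⟨a, ha, d', hd', rfl⟩ := Submodule.mem_sup.1 had
        obtain ⟨d, hd, rfl⟩ := mem_span_singleton_smul hd'
        have e1 : s • w - (C f : MvPolynomial σ R) • d = a + b := by rw [← hsum]; abel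
        refine ⟨s, hs, d, hd, mem_cf_col.2 ?_, e1 ▸ add_mem (Submodule.mem_sup_left ha) (Submodule.mem_sup_right hb)⟩
        have e2 : (C f : MvPolynomial σ R) • d = s • w - (a + b) := by rw [← e1]; abel
        rw [e2]
        exact sub_mem ((cf J).smul_mem s hwJ) (add_mem (smul_le_cf J W ha) (cf_mono hIJ hb))
      obtain ⟨s, hs, d, hd, hdJ, hX⟩ := step w hw hwJ
      rcases eq_or_lt_of_le (le_col J f) with heq | hgt
      · let T : ℕ → Submodule (MvPolynomial σ R) (ι → MvPolynomial σ R) := fun n =>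
          { carrier := {x | ∃ s ∈ G, (s * C f ^ n) • x ∈ X}
            zero_mem' := ⟨1, one_mem G, by simp⟩
            add_mem' := by
              rintro x y ⟨s, hs, hx⟩ ⟨t, ht, hy⟩
              refine ⟨s * t, mul_mem hs ht, ?_⟩
              rw [smul_add]
              refine add_mem ?_ ?_
              · rw [show s * t * C f ^ n = t * (s * C f ^ n) by ring, mul_smul]; exact Submodule.smul_mem _ t hx
              · rw [mul_assoc, mul_smul]; exact Submodule.smul_mem _ s hy
            smul_mem' := by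
              rintro p x ⟨s, hs, hx⟩
              exact ⟨s, hs, by rw [smul_comm]; exact Submodule.smul_mem _ p hx⟩ }
        have hmono : Monotone T := by
          intro n m hnm x hx
          obtain ⟨s, hs, hx⟩ := hx
          refine ⟨s, hs, ?_⟩
          rw [← Nat.sub_add_cancel hnm, pow_add, show s * (C f ^ (m - n) * C f ^ n) = C f ^ (m - n) * (s * C f ^ n) by ring,
            mul_smul]
          exact Submodule.smul_mem _ _ hx
        obtain ⟨N, hN⟩ := monotone_stabilizes_iff_noetherian.2 inferInstance ⟨T, hmono⟩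
        have iter : ∀ n : ℕ, ∃ s ∈ G, ∃ d ∈ W, d ∈ cf J ∧ s • w - (C f : MvPolynomial σ R) ^ n • d ∈ X := by
          intro n
          induction n with
          | zero => exact ⟨1, one_mem G, w, hw, hwJ, by simp⟩
          | succ n hn =>
            obtain ⟨s, hs, d, hd, hdJ, h⟩ := hn
            obtain ⟨t, ht, d', hd', hdJ', h'⟩ := step d hd hdJ
            refine ⟨t * s, mul_mem ht hs, d', hd', by rw [heq]; exact hdJ', ?_⟩
            have e : (t * s) • w - (C f : MvPolynomial σ R) ^ (n + 1) • d' =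
                t • (s • w - (C f : MvPolynomial σ R) ^ n • d) + (C f : MvPolynomial σ R) ^ n • (t • d - (C f : MvPolynomial σ R) • d') := by
              simp only [smul_sub, smul_smul]; rw [mul_comm t (C f ^ n), pow_succ]; abel
            rw [e]
            exact add_mem (Submodule.smul_mem _ t h) (Submodule.smul_mem _ _ h')
        obtain ⟨s, hs, d, hd, hdJ, h⟩ := iter N
        obtain ⟨t, ht, n, hn⟩ := htor J hIJ d hd hdJ
        have hd' : d ∈ T n := ⟨t, ht, hn⟩
        have hdN : d ∈ T N := by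
          have hle : T n ≤ T (max n N) := hmono (le_max_left _ _)
          have he : T N = T (max n N) := hN _ (le_max_right _ _)
          rw [he]; exact hle hd'
        obtain ⟨t', ht', hdN⟩ := hdN
        refine ⟨t' * s, mul_mem ht' hs, ?_⟩
        have e : (t' * s) • w = t' • (s • w - (C f : MvPolynomial σ R) ^ N • d) + (t' * (C f : MvPolynomial σ R) ^ N) • d := by
          rw [smul_sub, smul_smul, smul_smul]; abel
        rw [e]
        exact add_mem (Submodule.smul_mem _ t' h) hdN
      · obtain ⟨t, ht, htd⟩ := ih _ hgt (hIJ.trans (le_col J f)) d hd hdJ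
        obtain ⟨p, hp, q, hq, hpq⟩ := Submodule.mem_sup.1 htd
        refine ⟨t * s, mul_mem ht hs, ?_⟩
        have e : (t * s) • w = t • (s • w - (C f : MvPolynomial σ R) • d) + ((C f : MvPolynomial σ R) • p + (C f : MvPolynomial σ R) • q) := by
          rw [← smul_add, hpq, smul_comm (C f) t d, smul_sub, mul_smul]; abel
        rw [e]
        exact add_mem (Submodule.smul_mem _ t hX) (add_mem
          (Submodule.mem_sup_left (C_smul_map_smul (fun a ha => mem_col.1 ha) hp))
          (Submodule.mem_sup_right ((cf I).smul_mem _ hq)))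

end Groth.Agent.FlatSpread
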