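import Groth.Agent.FlatSpread.Model
import Mathlib.Algebra.Category.Ring.Constructions

/-!
Flatness of a finitely presented module descends to a stage of any filtered system of rings.
-/

set_option autoImplicit false
universe u v

open MvPolynomial

namespace Groth.Agent.FlatSpread

variable {σ : Type} {ι : Type}

/-- a system of rings under `A₀` with limit ring `A` -/
structure Sys {A₀ A : Type u} [CommRing A₀] [CommRing A] (α : A₀ →+* A) where
  J : Type v
  G : J → Type u
  [ring : ∀ j, CommRing (G j)]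
  a : ∀ j, A₀ →+* G j
  ψ : ∀ j, G j →+* A
  fac : ∀ j, (ψ j).comp (a j) = α
  nonempty : Nonempty J
  lift : ∀ j (x : A), ∃ (k : J) (h : G j →+* G k), (ψ k).comp h = ψ j ∧ h.comp (a j) = a k ∧ ∃ y, ψ k y = x
  eq : ∀ j (y : G j), ψ j y = 0 → ∃ (k : J) (h : G j →+* G k), (ψ k).comp h = ψ j ∧ h.comp (a j) = a k ∧ h y = 0

attribute [instance] Sys.ring

variable {A₀ A : Type u} [CommRing A₀] [CommRing A] {α : A₀ →+* A} (s : Sys.{u, v} α)

lemma Sys.eq_finset {j : s.J} (F : Finset (s.G j)) (hF : ∀ y ∈ F, s.ψ j y = 0) :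
    ∃ (k : s.J) (h : s.G j →+* s.G k), (s.ψ k).comp h = s.ψ j ∧ h.comp (s.a j) = s.a k ∧ ∀ y ∈ F, h y = 0 := by
  classical
  induction F using Finset.induction with
  | empty => exact ⟨j, RingHom.id _, RingHom.comp_id _, RingHom.id_comp _, by simp⟩
  | insert y F _ ih =>
    obtain ⟨k, h, h1, h2, h3⟩ := ih fun z hz => hF z (Finset.mem_insert_of_mem hz)
    obtain ⟨l, h', h1', h2', h3'⟩ := s.eq k (h y) (by
      rw [← RingHom.comp_apply, h1]; exact hF y (Finset.mem_insert_self y F))
    refine ⟨l, h'.comp h, by rw [← RingHom.comp_assoc, h1', h1], by rw [RingHom.comp_assoc, h2, h2'],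
      fun z hz => ?_⟩
    rcases Finset.mem_insert.1 hz with rfl | hz
    · exact h3'
    · rw [RingHom.comp_apply, h3 z hz, map_zero]

lemma Sys.eq_vec [Finite ι] {j : s.J} (n n' : ι → MvPolynomial σ (s.G j)) (hn : kL (s.ψ j) n = kL (s.ψ j) n') :
    ∃ (k : s.J) (h : s.G j →+* s.G k), (s.ψ k).comp h = s.ψ j ∧ h.comp (s.a j) = s.a k ∧ kL h n = kL h n' := by
  classical
  haveI := Fintype.ofFinite ι
  let F : Finset (s.G j) := Finset.univ.biUnion fun i => ((n i - n' i).support).image fun β => (n i - n' i).coeff β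
  obtain ⟨k, h, h1, h2, h3⟩ := s.eq_finset F fun y hy => by
    obtain ⟨i, -, hy⟩ := Finset.mem_biUnion.1 hy
    obtain ⟨β, -, rfl⟩ := Finset.mem_image.1 hy
    have := congrArg (fun q => MvPolynomial.coeff β q) (congrFun hn i)
    change MvPolynomial.coeff β (MvPolynomial.map _ (n i)) = MvPolynomial.coeff β (MvPolynomial.map _ (n' i)) at this
    rw [coeff_map, coeff_map] at this
    rw [coeff_sub, map_sub, this, sub_self]
  refine ⟨k, h, h1, h2, funext fun i => ?_⟩
  change MvPolynomial.map h (n i) = MvPolynomial.map h (n' i)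
  rw [← sub_eq_zero, ← map_sub]
  ext β
  rw [coeff_map, coeff_zero]
  by_cases hβ : β ∈ (n i - n' i).support
  · exact h3 _ (Finset.mem_biUnion.2 ⟨i, Finset.mem_univ i, Finset.mem_image_of_mem _ hβ⟩)
  · rw [notMem_support_iff.1 hβ, map_zero]

lemma Sys.lift_poly (j : s.J) (p : MvPolynomial σ A) :
    ∃ (k : s.J) (h : s.G j →+* s.G k), (s.ψ k).comp h = s.ψ j ∧ h.comp (s.a j) = s.a k ∧
      ∃ q, MvPolynomial.map (s.ψ k) q = p := by
  induction p using MvPolynomial.induction_on' with
  | monomial β c =>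
    obtain ⟨k, h, h1, h2, y, rfl⟩ := s.lift j c
    exact ⟨k, h, h1, h2, monomial β y, map_monomial _ _ _⟩
  | add p p' hp hp' =>
    clear hp
    revert j
    suffices H : ∀ (p : MvPolynomial σ A) (j : s.J), ∃ (k : s.J) (h : s.G j →+* s.G k),
        (s.ψ k).comp h = s.ψ j ∧ h.comp (s.a j) = s.a k ∧ ∃ q, MvPolynomial.map (s.ψ k) q = p from
      fun j _ => H _ j
    intro p
    induction p using MvPolynomial.induction_on' with
    | monomial β c =>
      intro j
      obtain ⟨k, h, h1, h2, y, rfl⟩ := s.lift j c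
      exact ⟨k, h, h1, h2, monomial β y, map_monomial _ _ _⟩
    | add p p' hp hp' =>
      intro j
      obtain ⟨k, h, h1, h2, q, rfl⟩ := hp j
      obtain ⟨l, h', h1', h2', q', rfl⟩ := hp' k
      refine ⟨l, h'.comp h, by rw [← RingHom.comp_assoc, h1', h1], by rw [RingHom.comp_assoc, h2, h2'],
        MvPolynomial.map h' q + q', ?_⟩
      rw [map_add, MvPolynomial.map_map, h1']

lemma Sys.lift_ext [Finite ι] (W : Submodule (MvPolynomial σ A₀) (ι → MvPolynomial σ A₀))
    {n : ι → MvPolynomial σ A} (hn : n ∈ ext α W) :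
    ∀ j : s.J, ∃ (k : s.J) (h : s.G j →+* s.G k), (s.ψ k).comp h = s.ψ j ∧ h.comp (s.a j) = s.a k ∧
      ∃ n' ∈ ext (s.a k) W, kL (s.ψ k) n' = n := by
  induction hn using Submodule.span_induction with
  | mem n hn =>
    obtain ⟨w, hw, rfl⟩ := hn
    refine fun j => ⟨j, RingHom.id _, RingHom.comp_id _, RingHom.id_comp _, _, kL_mem_ext _ hw, funext fun i => ?_⟩
    change MvPolynomial.map (s.ψ j) (MvPolynomial.map (s.a j) (w i)) = _
    rw [MvPolynomial.map_map, s.fac]
    rfl
  | zero => exact fun j => ⟨j, RingHom.id _, RingHom.comp_id _, RingHom.id_comp _, 0, zero_mem _, map_zero _⟩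
  | add x y _ _ hx hy =>
    intro j
    obtain ⟨k, h, h1, h2, x', hx', rfl⟩ := hx j
    obtain ⟨l, h', h1', h2', y', hy', rfl⟩ := hy k
    refine ⟨l, h'.comp h, by rw [← RingHom.comp_assoc, h1', h1], by rw [RingHom.comp_assoc, h2, h2'],
      kL h' x' + y', add_mem ?_ hy', ?_⟩
    · have := kL_mem_ext h' hx'
      rwa [ext_ext, h2'] at this
    · rw [map_add]
      congr 1
      funext i
      change MvPolynomial.map _ (MvPolynomial.map _ (x' i)) = MvPolynomial.map _ (x' i)
      rw [MvPolynomial.map_map, h1']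
  | smul p x _ hx =>
    intro j
    obtain ⟨k, h, h1, h2, x', hx', rfl⟩ := hx j
    obtain ⟨l, h', h1', h2', q, rfl⟩ := s.lift_poly k p
    refine ⟨l, h'.comp h, by rw [← RingHom.comp_assoc, h1', h1], by rw [RingHom.comp_assoc, h2, h2'],
      q • kL h' x', Submodule.smul_mem _ _ ?_, ?_⟩
    · have := kL_mem_ext h' hx'
      rwa [ext_ext, h2'] at this
    · rw [LinearMap.map_smulₛₗ]
      congr 1
      funext i
      change MvPolynomial.map _ (MvPolynomial.map _ (x' i)) = MvPolynomial.map _ (x' i)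
      rw [MvPolynomial.map_map, h1']

/-- a finitely presented ring maps to some stage -/
lemma Sys.lift_hom {R₀ : Type u} [CommRing R₀] [Algebra.FiniteType ℤ R₀] (φ : R₀ →+* A) (j : s.J) :
    ∃ (k : s.J) (h : s.G j →+* s.G k) (η : R₀ →+* s.G k),
      (s.ψ k).comp h = s.ψ j ∧ h.comp (s.a j) = s.a k ∧ (s.ψ k).comp η = φ := by
  classical
  haveI : Algebra.FinitePresentation ℤ R₀ := Algebra.FinitePresentation.of_finiteType.1 inferInstance
  obtain ⟨n, π, hπ, ⟨K, hK⟩⟩ := Algebra.FinitePresentation.out (R := ℤ) (A := R₀)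
  have hl : ∀ (F : Finset (Fin n)) (j : s.J), ∃ (k : s.J) (h : s.G j →+* s.G k),
      (s.ψ k).comp h = s.ψ j ∧ h.comp (s.a j) = s.a k ∧ ∀ i ∈ F, ∃ y, s.ψ k y = φ (π (X i)) := by
    intro F
    induction F using Finset.induction with
    | empty => exact fun j => ⟨j, RingHom.id _, RingHom.comp_id _, RingHom.id_comp _, by simp⟩
    | insert i F _ ih =>
      intro j
      obtain ⟨k, h, h1, h2, h3⟩ := ih j
      obtain ⟨l, h', h1', h2', y, hy⟩ := s.lift k (φ (π (X i)))
      refine ⟨l, h'.comp h, by rw [← RingHom.comp_assoc, h1', h1], by rw [RingHom.comp_assoc, h2, h2'],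
        fun i' hi' => ?_⟩
      rcases Finset.mem_insert.1 hi' with rfl | hi'
      · exact ⟨y, hy⟩
      · obtain ⟨z, hz⟩ := h3 i' hi'
        exact ⟨h' z, by rw [← RingHom.comp_apply, h1', hz]⟩
  obtain ⟨k, h, h1, h2, h3⟩ := hl Finset.univ j
  choose y hy using fun i => h3 i (Finset.mem_univ i)
  let e : MvPolynomial (Fin n) ℤ →+* s.G k := eval₂Hom (Int.castRingHom _) y
  have he : (s.ψ k).comp e = φ.comp π.toRingHom :=
    MvPolynomial.ringHom_ext (fun r => by simp [e]) fun i => by simp [e, hy]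
  obtain ⟨l, h', h1', h2', h3'⟩ := s.eq_finset (K.image e) fun z hz => by
    obtain ⟨p, hp, rfl⟩ := Finset.mem_image.1 hz
    have hp0 : π p = 0 := RingHom.mem_ker.1 (hK ▸ Ideal.subset_span hp)
    rw [← RingHom.comp_apply, he, RingHom.comp_apply]
    exact (congrArg φ hp0).trans (map_zero φ)
  have hker : RingHom.ker π.toRingHom ≤ RingHom.ker (h'.comp e) := by
    rw [← hK, Ideal.span_le]
    exact fun p hp => h3' _ (Finset.mem_image_of_mem e hp)
  refine ⟨l, h'.comp h, π.toRingHom.liftOfSurjective hπ ⟨h'.comp e, hker⟩,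
    by rw [← RingHom.comp_assoc, h1', h1], by rw [RingHom.comp_assoc, h2, h2'], ?_⟩
  refine RingHom.ext fun r => ?_
  obtain ⟨p, rfl⟩ := hπ r
  have : (π.toRingHom.liftOfSurjective hπ ⟨h'.comp e, hker⟩) (π p) = h' (e p) :=
    RingHom.liftOfRightInverse_comp_apply _ _ _ _ p
  rw [RingHom.comp_apply, this, ← RingHom.comp_apply (s.ψ l) h', h1', ← RingHom.comp_apply, he]
  rfl

/-- **Flatness descends to a stage.** -/
theorem Sys.exists_fl [Finite σ] [Finite ι] {W : Submodule (MvPolynomial σ A₀) (ι → MvPolynomial σ A₀)} (hW : W.FG)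
    {GA : Submonoid (MvPolynomial σ A)} (hA : Fl (⊥ : Ideal A) GA (ext α W)) :
    ∃ (j : s.J) (g : MvPolynomial σ (s.G j)), MvPolynomial.map (s.ψ j) g ∈ GA ∧
      Fl (⊥ : Ideal (s.G j)) (Submonoid.powers g) (ext (s.a j) W) := by
  classical
  obtain ⟨T, hT⟩ := hW
  have hT' : Submodule.span (MvPolynomial σ A) ((T.image (kL α) : Finset (ι → MvPolynomial σ A)) : Set (ι → MvPolynomial σ A)) =
      ext α W := by
    refine le_antisymm (Submodule.span_le.2 ?_) (Submodule.span_le.2 ?_)
    · rw [Finset.coe_image]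
      rintro _ ⟨x, hx, rfl⟩
      exact kL_mem_ext α (hT ▸ Submodule.subset_span hx)
    · rintro _ ⟨w, hw, rfl⟩
      rw [SetLike.mem_coe, ← hT] at hw
      induction hw using Submodule.span_induction with
      | mem x hx => exact Submodule.subset_span (by rw [Finset.coe_image]; exact ⟨x, hx, rfl⟩)
      | zero => rw [map_zero]; exact zero_mem _
      | add a b _ _ ha hb => rw [map_add]; exact add_mem ha hb
      | smul p a _ ha => rw [LinearMap.map_smulₛₗ]; exact Submodule.smul_mem _ _ ha
  obtain ⟨R₀, _, φ, hft, -, W', g₀, hW', hg₀, hfl, hTl, -⟩ := exists_model_fl' _ hT' ∅ hA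
  haveI := hft
  haveI : IsNoetherianRing R₀ := Algebra.FiniteType.isNoetherianRing ℤ R₀
  obtain ⟨T', hTW'⟩ : W'.FG := IsNoetherian.noetherian W'
  obtain ⟨j, -, η, -, -, hη⟩ := s.lift_hom φ s.nonempty.some
  -- comparisons
  have h1 : ∀ (F : Finset (ι → MvPolynomial σ A₀)), F ⊆ T → ∃ (k : s.J) (h : s.G j →+* s.G k),
      (s.ψ k).comp h = s.ψ j ∧ h.comp (s.a j) = s.a k ∧ ∀ x ∈ F, kL (s.a k) x ∈ ext (h.comp η) W' := by
    intro F
    induction F using Finset.induction with
    | empty => exact fun _ => ⟨j, RingHom.id _, RingHom.comp_id _, RingHom.id_comp _, by simp⟩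
    | insert x F _ ih =>
      intro hxF
      obtain ⟨k, h, e1, e2, h3⟩ := ih fun y hy => hxF (Finset.mem_insert_of_mem hy)
      obtain ⟨x₀, hx₀, hx₀e⟩ := hTl (kL α x) (Finset.mem_image_of_mem _ (hxF (Finset.mem_insert_self x F)))
      obtain ⟨l, h', e1', e2', e3⟩ := s.eq_vec (kL (s.a k) x) (kL (h.comp η) x₀) (funext fun i => by
        change MvPolynomial.map _ (MvPolynomial.map _ (x i)) = MvPolynomial.map _ (MvPolynomial.map _ (x₀ i))
        rw [MvPolynomial.map_map, MvPolynomial.map_map, s.fac, ← RingHom.comp_assoc, e1, hη]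
        exact (congrFun hx₀e i).symm)
      refine ⟨l, h'.comp h, by rw [← RingHom.comp_assoc, e1', e1], by rw [RingHom.comp_assoc, e2, e2'],
        fun y hy => ?_⟩
      have key : ∀ z, kL (s.a k) z ∈ ext (h.comp η) W' → kL (s.a l) z ∈ ext ((h'.comp h).comp η) W' := by
        intro z hz
        have := kL_mem_ext h' hz
        rw [ext_ext, ← RingHom.comp_assoc] at this
        refine (congrArg (· ∈ ext ((h'.comp h).comp η) W') (funext fun i => ?_)).mp this
        change MvPolynomial.map h' (MvPolynomial.map (s.a k) (z i)) = _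
        rw [MvPolynomial.map_map, e2']
        rfl
      rcases Finset.mem_insert.1 hy with rfl | hy
      · have e4 : kL (s.a l) y = kL ((h'.comp h).comp η) x₀ := by
          refine Eq.trans ?_ (e3.trans ?_)
          · funext i
            change _ = MvPolynomial.map h' (MvPolynomial.map (s.a k) (y i))
            rw [MvPolynomial.map_map, e2']
            rfl
          · funext i
            change MvPolynomial.map h' (MvPolynomial.map (h.comp η) (x₀ i)) = _
            rw [MvPolynomial.map_map, ← RingHom.comp_assoc]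
            rfl
        exact e4 ▸ kL_mem_ext _ hx₀
      · exact key y (h3 y hy)
  obtain ⟨k, h, e1, e2, h3⟩ := h1 T subset_rfl
  have h2 : ∀ (F : Finset (ι → MvPolynomial σ R₀)), F ⊆ T' → ∃ (l : s.J) (h' : s.G k →+* s.G l),
      (s.ψ l).comp h' = s.ψ k ∧ h'.comp (s.a k) = s.a l ∧ ∀ x ∈ F, kL ((h'.comp h).comp η) x ∈ ext (s.a l) W := by
    intro F
    induction F using Finset.induction with
    | empty => exact fun _ => ⟨k, RingHom.id _, RingHom.comp_id _, RingHom.id_comp _, by simp⟩
    | insert x F _ ih =>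
      intro hxF
      obtain ⟨l, h', f1, f2, f3⟩ := ih fun y hy => hxF (Finset.mem_insert_of_mem hy)
      have hxW : x ∈ W' := hTW' ▸ Submodule.subset_span (hxF (Finset.mem_insert_self x F))
      have hmem : kL φ x ∈ ext α W := hW' ▸ kL_mem_ext φ hxW
      obtain ⟨m, g, g1, g2, n', hn', hn'e⟩ := s.lift_ext W hmem l
      obtain ⟨m', g', g1', g2', g3⟩ := s.eq_vec (kL ((g.comp (h'.comp h)).comp η) x) n' (by
        rw [hn'e]
        funext i
        change MvPolynomial.map _ (MvPolynomial.map _ (x i)) = _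
        rw [MvPolynomial.map_map, ← RingHom.comp_assoc, ← RingHom.comp_assoc, g1, ← RingHom.comp_assoc, f1, e1, hη]
        rfl)
      refine ⟨m', (g'.comp g).comp h', by rw [← RingHom.comp_assoc, ← RingHom.comp_assoc, g1', g1, f1],
        by rw [RingHom.comp_assoc, f2, RingHom.comp_assoc, g2, g2'], fun y hy => ?_⟩
      have key : ∀ z : ι → MvPolynomial σ R₀, kL ((((g'.comp g).comp h').comp h).comp η) z = kL g' (kL ((g.comp (h'.comp h)).comp η) z) := by
        intro z
        funext i
        change _ = MvPolynomial.map g' (MvPolynomial.map _ (z i))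
        rw [MvPolynomial.map_map]
        rfl
      rcases Finset.mem_insert.1 hy with rfl | hy
      · rw [key, g3]
        have := kL_mem_ext g' hn'
        rwa [ext_ext, g2'] at this
      · have := kL_mem_ext (g'.comp g) (f3 y hy)
        rw [ext_ext, RingHom.comp_assoc, g2, g2'] at this
        refine (congrArg (· ∈ ext (s.a m') W) (funext fun i => ?_)).mp this
        change MvPolynomial.map (g'.comp g) (MvPolynomial.map _ (y i)) = _
        rw [MvPolynomial.map_map]
        rfl
  obtain ⟨l, h', f1, f2, f3⟩ := h2 T' subset_rfl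
  let χ := (h'.comp h).comp η
  have hχ : (s.ψ l).comp χ = φ := by
    rw [← RingHom.comp_assoc, ← RingHom.comp_assoc, f1, e1, hη]
  have hexteq : ext χ W' = ext (s.a l) W := by
    refine le_antisymm (Submodule.span_le.2 ?_) (Submodule.span_le.2 ?_)
    · rintro _ ⟨w, hw, rfl⟩
      rw [SetLike.mem_coe, ← hTW'] at hw
      induction hw using Submodule.span_induction with
      | mem x hx => exact f3 x hx
      | zero => rw [map_zero]; exact zero_mem _
      | add a b _ _ ha hb => rw [map_add]; exact add_mem ha hb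
      | smul p a _ ha => rw [LinearMap.map_smulₛₗ]; exact Submodule.smul_mem _ _ ha
    · rintro _ ⟨w, hw, rfl⟩
      rw [SetLike.mem_coe, ← hT] at hw
      induction hw using Submodule.span_induction with
      | mem x hx =>
        have := kL_mem_ext h' (h3 x hx)
        rw [ext_ext] at this
        refine (congrArg (· ∈ ext χ W') (funext fun i => ?_)).mp (by exact this)
        change MvPolynomial.map h' (MvPolynomial.map (s.a k) (x i)) = _
        rw [MvPolynomial.map_map, f2]
        rfl
      | zero => rw [map_zero]; exact zero_mem _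
      | add a b _ _ ha hb => rw [map_add]; exact add_mem ha hb
      | smul p a _ ha => rw [LinearMap.map_smulₛₗ]; exact Submodule.smul_mem _ _ ha
  refine ⟨l, MvPolynomial.map χ g₀, ?_, ?_⟩
  · rw [MvPolynomial.map_map, hχ]; exact hg₀
  · have := Fl.baseChange χ hfl (G' := Submonoid.powers (MvPolynomial.map χ g₀))
      (by rintro _ ⟨n, rfl⟩; exact ⟨n, (map_pow _ _ _).symm⟩)
    rwa [Ideal.map_bot, hexteq] at this

/-- flatness of a quotient of a polynomial ring as the criterion -/
theorem flat_iff_fl {R S : Type u} [CommRing R] [CommRing S] [Algebra R S] {n : ℕ}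
    (π : MvPolynomial (Fin n) R →ₐ[R] S) (hπ : Function.Surjective π) :
    Module.Flat R S ↔ Fl (⊥ : Ideal R) (⊥ : Submonoid (MvPolynomial (Fin n) R))
      (Submodule.comap (LinearEquiv.funUnique (Fin 1) (MvPolynomial (Fin n) R) (MvPolynomial (Fin n) R)).toLinearMap
        (RingHom.ker π.toRingHom)) := by
  letI : Module (MvPolynomial (Fin n) R) S := Module.compHom S π.toRingHom
  let g : (Fin 1 → MvPolynomial (Fin n) R) →ₗ[MvPolynomial (Fin n) R] S :=
    { toFun := fun x => π (x 0)
      map_add' := fun a b => map_add π _ _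
      map_smul' := fun p x => map_mul π _ _ }
  let W := Submodule.comap (LinearEquiv.funUnique (Fin 1) (MvPolynomial (Fin n) R) (MvPolynomial (Fin n) R)).toLinearMap
        (RingHom.ker π.toRingHom)
  have hgW : LinearMap.ker g = W := rfl
  let e : ((Fin 1 → MvPolynomial (Fin n) R) ⧸ W) ≃ₗ[MvPolynomial (Fin n) R] S :=
    (Submodule.quotEquivOfEq _ _ hgW.symm).trans (g.quotKerEquivOfSurjective fun s =>
      let ⟨p, hp⟩ := hπ s; ⟨fun _ => p, hp⟩)
  refine Iff.trans ?_ (flat_localized_iff π W e ⊥)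
  rw [Submonoid.map_bot]
  have := isLocalizedModule_id (X := S) (⊥ : Submonoid S) fun x hx => Submonoid.mem_bot.1 hx
  let i := (IsLocalizedModule.iso (⊥ : Submonoid S) (LinearMap.id : S →ₗ[S] S)).restrictScalars R
  exact ⟨fun _ => Module.Flat.of_linearEquiv i, fun _ => Module.Flat.of_linearEquiv i.symm⟩

open CategoryTheory in
/-- a presentation of a pushout -/
theorem exists_presentation_pushout {A₀ B₀ A' B' : CommRingCat.{u}} (f : A₀ ⟶ B₀) (a : A₀ ⟶ A') (b : B₀ ⟶ B')
    (f' : A' ⟶ B') (h : IsPushout f a b f') {n : ℕ} (π : MvPolynomial (Fin n) A₀ →+* B₀)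
    (hπ : Function.Surjective π) (hπC : ∀ r, π (C r) = f r) :
    ∃ π' : MvPolynomial (Fin n) A' →+* B', Function.Surjective π' ∧ (∀ r, π' (C r) = f' r) ∧
      RingHom.ker π' = (RingHom.ker π).map (MvPolynomial.map a.hom) := by
  let π' : MvPolynomial (Fin n) A' →+* B' := eval₂Hom f'.hom fun i => b (π (X i))
  have hcomp : π'.comp (MvPolynomial.map a.hom) = b.hom.comp π := by
    refine MvPolynomial.ringHom_ext (fun r => ?_) fun i => by simp [π']
    have hw : b (f r) = f' (a r) := congr($(h.w) r)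
    simp [π', hπC, hw]
  let K := (RingHom.ker π).map (MvPolynomial.map a.hom)
  have hK : ∀ p ∈ K, π' p = 0 := by
    refine fun p hp => RingHom.mem_ker.1 ((Ideal.map_le_iff_le_comap.2 ?_) hp)
    intro q hq
    rw [Ideal.mem_comap, RingHom.mem_ker, ← RingHom.comp_apply, hcomp, RingHom.comp_apply, RingHom.mem_ker.1 hq, map_zero]
  let Q := CommRingCat.of (MvPolynomial (Fin n) A' ⧸ K)
  let u : B₀ ⟶ Q := CommRingCat.ofHom (π.liftOfSurjective hπ ⟨(Ideal.Quotient.mk K).comp (MvPolynomial.map a.hom),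
    fun q hq => Ideal.Quotient.eq_zero_iff_mem.2 (Ideal.mem_map_of_mem _ hq)⟩)
  have hu : ∀ q, u (π q) = Ideal.Quotient.mk K (MvPolynomial.map a.hom q) := fun q =>
    RingHom.liftOfRightInverse_comp_apply _ _ _ _ q
  let v : A' ⟶ Q := CommRingCat.ofHom ((Ideal.Quotient.mk K).comp C)
  let inv := h.desc u v (CommRingCat.hom_ext (RingHom.ext fun r => by
    change u (f r) = Ideal.Quotient.mk K (C (a r))
    rw [← hπC, hu, map_C]))
  let j : Q ⟶ B' := CommRingCat.ofHom (Ideal.Quotient.lift K π' hK)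
  have hj : inv ≫ j = 𝟙 B' := by
    refine h.hom_ext ?_ ?_
    · rw [h.inl_desc_assoc, Category.comp_id]
      refine CommRingCat.hom_ext (RingHom.ext fun r => ?_)
      obtain ⟨q, rfl⟩ := hπ r
      change j (u (π q)) = b (π q)
      rw [hu]
      exact congr($hcomp q)
    · rw [h.inr_desc_assoc, Category.comp_id]
      exact CommRingCat.hom_ext (RingHom.ext fun r => show π' (C r) = f' r by simp [π'])
  have hinv : ∀ p, inv (π' p) = Ideal.Quotient.mk K p := by
    have : inv.hom.comp π' = Ideal.Quotient.mk K := by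
      refine MvPolynomial.ringHom_ext (fun r => ?_) fun i => ?_
      · change inv (π' (C r)) = v r
        rw [show π' (C r) = f' r by simp [π'], ← CommRingCat.comp_apply, h.inr_desc]
      · change inv (π' (X i)) = _
        rw [show π' (X i) = b (π (X i)) by simp [π'], ← CommRingCat.comp_apply, h.inl_desc, hu, map_X]
    exact fun p => congr($this p)
  refine ⟨π', fun x => ?_, fun r => by simp [π'], le_antisymm (fun p hp => ?_) fun p hp => hK p hp⟩
  · obtain ⟨p, hp⟩ := Ideal.Quotient.mk_surjective (inv x)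
    refine ⟨p, ?_⟩
    have := congr($hj x)
    rw [CommRingCat.comp_apply, ← hp] at this
    exact this
  · refine Ideal.Quotient.eq_zero_iff_mem.1 ?_
    rw [← hinv, RingHom.mem_ker.1 hp, map_zero]

/-- extension of an ideal seen as a submodule -/
theorem ext_comap_funUnique {n : ℕ} {R R' : Type u} [CommRing R] [CommRing R'] (φ : R →+* R')
    (K : Ideal (MvPolynomial (Fin n) R)) :
    ext φ (Submodule.comap (LinearEquiv.funUnique (Fin 1) (MvPolynomial (Fin n) R) (MvPolynomial (Fin n) R)).toLinearMap K) =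
      Submodule.comap (LinearEquiv.funUnique (Fin 1) (MvPolynomial (Fin n) R') (MvPolynomial (Fin n) R')).toLinearMap
        (K.map (MvPolynomial.map φ)) := by
  refine le_antisymm (Submodule.span_le.2 ?_) fun y hy => ?_
  · rintro _ ⟨w, hw, rfl⟩
    exact Ideal.mem_map_of_mem (MvPolynomial.map φ) hw
  · have key : ∀ p ∈ K.map (MvPolynomial.map φ), (fun _ => p : Fin 1 → MvPolynomial (Fin n) R') ∈
        ext φ (Submodule.comap (LinearEquiv.funUnique (Fin 1) (MvPolynomial (Fin n) R) (MvPolynomial (Fin n) R)).toLinearMap K) := by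
      intro p hp
      induction hp using Submodule.span_induction with
      | mem p hp =>
        obtain ⟨q, hq, rfl⟩ := hp
        exact Submodule.subset_span ⟨fun _ => q, hq, rfl⟩
      | zero => exact zero_mem _
      | add a b _ _ ha hb => exact add_mem ha hb
      | smul c a _ ha => exact Submodule.smul_mem _ c ha
    have h0 := key _ hy
    refine (congrArg (· ∈ ext φ _) (funext fun i => ?_)).mp h0
    fin_cases i
    rfl

end Groth.Agent.FlatSpread
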